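import Groth.Agent.AlgSp.K646.CechInj
import Groth.Agent.CohtopA.ModExt
import Groth.Agent.CohtopB.CechCrit
import Mathlib.CategoryTheory.Abelian.GrothendieckCategory.HasExt

/-!
# Cartan's criterion for modules on a site, with single coverings

`B`: class of objects, `Cov`: class of single coverings between objects of `B`.  If `F` is a sheaf of modules
whose Čech complexes for the coverings of `Cov` are exact in positive degrees then
`Ext^{p+1}(j_! O_U, F) = 0` for `U` in `B` (`subsingleton_ext`), and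
`Hom_D(j_! O_U[-a], F[-b]) = 0` for `b < a` (`hom_single_eq_zero`).
-/

set_option autoImplicit false

universe w' w v u

open CategoryTheory CategoryTheory.Limits CategoryTheory.Abelian Opposite Simplicial

namespace K646.Cartan

open Groth.Agent.Etbase.CechCartan K646.Free K646.CechInj Groth.Agent.CohtopB.CechCrit

section step0

variable {C : Type u} [Category.{v} C]
  {J : GrothendieckTopology C} [HasSheafify J AddCommGrpCat.{max v w}]
  [∀ (V U : C) (f : V ⟶ U) (n : ℕ), HasWidePullback (Arrow.mk f).right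
    (fun _ : Fin (n + 1) => (Arrow.mk f).left) fun _ => (Arrow.mk f).hom]

/-- Cartan's criterion, dimension shifting step, with a Čech acyclic middle term. -/
theorem cartan_step' (B : C → Prop) (Cov : ∀ ⦃V U : C⦄, (V ⟶ U) → Prop)
    (hB : ∀ ⦃V U : C⦄ (f : V ⟶ U), Cov f → ∀ n : ℕ, B ((Arrow.mk f).cechNerve _⦋n⦌))
    (hJ : ∀ ⦃V U : C⦄ (f : V ⟶ U), Cov f → Sieve.generateSingleton f ∈ J U)
    {F I Q : Sheaf J AddCommGrpCat.{max v w}}
    (j : F ⟶ I) (q : I ⟶ Q) (wz : j ≫ q = 0) (hT : (ShortComplex.mk j q wz).ShortExact)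
    (hlift : ∀ (U : C), B U → ∀ (s : Q.obj.obj (op U)), ∃ (V : C) (f : V ⟶ U), Cov f ∧
      ∃ t : I.obj.obj (op V), q.hom.app (op V) t = Q.obj.map f.op s)
    (hF : CechAcyc Cov F.obj) (hI : CechAcyc Cov I.obj) :
    (∀ U : C, B U → Function.Surjective (q.hom.app (op U))) ∧ CechAcyc Cov Q.obj := by
  have surj : ∀ U : C, B U → Function.Surjective (q.hom.app (op U)) := by
    intro U hU s
    obtain ⟨V, f, hf, t, ht⟩ := hlift U hU s
    let E := (Arrow.mk f).cechNerve
    let t₀ : I.obj.obj (op (E _⦋0⦌)) := I.obj.map (pr f 0 0).op t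
    have hqt₀ : q.hom.app _ t₀ = Q.obj.map (bs f 0).op s := by
      have h1 : q.hom.app _ (I.obj.map (pr f 0 0).op t) =
          Q.obj.map (pr f 0 0).op (q.hom.app _ t) :=
        ConcreteCategory.congr_hom (q.hom.naturality (pr f 0 0).op) t
      rw [h1, ht, ← pr_comp f 0 0, op_comp, Functor.map_comp]
      rfl
    have h2 : q.hom.app _ (dC I.obj E 0 t₀) = 0 := by
      rw [dC_naturality_apply, hqt₀, dC_apply, Fin.sum_univ_two]
      simp only [Fin.val_zero, pow_zero, one_smul, Fin.val_one, pow_one, neg_smul]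
      rw [← sub_eq_add_neg, sub_eq_zero]
      have h3 : ∀ i, Q.obj.map (E.δ i).op (Q.obj.map (bs f 0).op s) =
          Q.obj.map (bs f 1).op s := by
        intro i
        rw [← δ_bs f 0 i, op_comp, Functor.map_comp]
        rfl
      rw [h3, h3]
    obtain ⟨z, hz⟩ := (ses_eval j q wz hT (E _⦋1⦌)).2.1 _ h2
    have hz0 : dC F.obj E 1 z = 0 := by
      apply (ses_eval j q wz hT (E _⦋2⦌)).1
      rw [dC_naturality_apply, hz, map_zero]
      exact dC_dC_apply I.obj E 0 t₀
    obtain ⟨z', hz'⟩ := hF f hf 0 z hz0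
    have h4 : dC I.obj E 0 (t₀ - j.hom.app _ z') = 0 := by
      rw [map_sub, ← dC_naturality_apply, hz', hz, sub_self]
    obtain ⟨t', ht'⟩ := sheaf_glue I f (hJ f hf) _ h4
    refine ⟨t', sheaf_sep Q f (hJ f hf) ?_⟩
    let e : V ⟶ (Arrow.mk f).cechNerve _⦋0⦌ := mkE f 0 f (fun _ => 𝟙 _) (by simp)
    have he : e ≫ bs f 0 = f := by simp [e]
    have h5 : Q.obj.map (bs f 0).op (q.hom.app _ t') = Q.obj.map (bs f 0).op s := by
      have h6 : Q.obj.map (bs f 0).op (q.hom.app _ t') = q.hom.app _ (I.obj.map (bs f 0).op t') :=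
        (ConcreteCategory.congr_hom (q.hom.naturality (bs f 0).op) t').symm
      rw [h6, ht', map_sub, hqt₀, (ses_eval j q wz hT (E _⦋0⦌)).2.2, sub_zero]
    rw [← he, op_comp, Functor.map_comp]
    exact congrArg (Q.obj.map e.op) h5
  refine ⟨surj, ?_⟩
  intro V U f hf
  exact exact_of_shortExact j.hom q.hom _ (fun n => (ses_eval j q wz hT _).1)
    (fun n => (ses_eval j q wz hT _).2.1) (fun n => (ses_eval j q wz hT _).2.2)
    (fun n => surj _ (hB f hf n)) (hF f hf) (hI f hf)

end step0

section Single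

variable {C : Type*} [Category* C] [Abelian C] [HasDerivedCategory.{w} C] [HasExt.{w} C]

/-- Vanishing of positive `Ext` groups, in terms of morphisms between single complexes. -/
theorem hom_single_eq_zero (G M : C) (h : ∀ (n : ℕ) (x : Abelian.Ext.{w} G M (n + 1)), x = 0)
    (a b : ℤ) (hab : b < a)
    (f : (DerivedCategory.singleFunctor C a).obj G ⟶ (DerivedCategory.singleFunctor C b).obj M) :
    f = 0 := by
  obtain ⟨n, hn⟩ : ∃ n : ℕ, b + ((n + 1 : ℕ) : ℤ) = a := ⟨(a - b - 1).toNat, by omega⟩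
  let e₁ : (shiftFunctor (DerivedCategory C) a).obj ((DerivedCategory.singleFunctor C a).obj G) ≅
      (DerivedCategory.singleFunctor C 0).obj G :=
    ((DerivedCategory.singleFunctors C).shiftIso a 0 a (by omega)).app G
  let e₂ : (shiftFunctor (DerivedCategory C) a).obj ((DerivedCategory.singleFunctor C b).obj M) ≅
      (shiftFunctor (DerivedCategory C) ((n + 1 : ℕ) : ℤ)).obj
        ((DerivedCategory.singleFunctor C 0).obj M) :=
    ((DerivedCategory.singleFunctors C).shiftIso a (b - a) b (by omega)).app M ≪≫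
      (((DerivedCategory.singleFunctors C).shiftIso ((n + 1 : ℕ) : ℤ) (b - a) 0 (by omega)).app M).symm
  have h0 : e₁.inv ≫ (shiftFunctor (DerivedCategory C) a).map f ≫ e₂.hom = 0 := by
    have := h n (Abelian.Ext.homEquiv.symm (e₁.inv ≫ (shiftFunctor (DerivedCategory C) a).map f ≫ e₂.hom))
    rw [Equiv.symm_apply_eq] at this
    rw [this]
    exact Abelian.Ext.zero_hom _ _ _
  apply (shiftFunctor (DerivedCategory C) a).map_injective
  rw [Functor.map_zero]
  rw [← cancel_epi e₁.inv, ← cancel_mono e₂.hom, Category.assoc, h0]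
  simp

end Single

variable {C : Type u} [Category.{v} C] {J : GrothendieckTopology C} (R : Sheaf J RingCat.{max w v})
  [HasSheafify J AddCommGrpCat.{max w v}] [J.WEqualsLocallyBijective AddCommGrpCat.{max w v}]
  [∀ (V U : C) (f : V ⟶ U) (n : ℕ), HasWidePullback (Arrow.mk f).right
    (fun _ : Fin (n + 1) => (Arrow.mk f).left) fun _ => (Arrow.mk f).hom]

variable {R}

omit [∀ (V U : C) (f : V ⟶ U) (n : ℕ), HasWidePullback (Arrow.mk f).right
    (fun _ : Fin (n + 1) => (Arrow.mk f).left) fun _ => (Arrow.mk f).hom] in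
/-- A short exact sequence of sheaves of modules gives one of abelian sheaves. -/
theorem shortExact_toSheaf {S : ShortComplex (SheafOfModules.{max w v} R)} (hS : S.ShortExact) :
    (S.map (SheafOfModules.toSheaf.{max w v} R)).ShortExact := by
  have := Groth.Agent.CohtopA.ModExt.toSheaf_preservesFiniteColimits.{max w v} R
  exact hS.map_of_exact _

variable (B : C → Prop) (Cov : ∀ ⦃V U : C⦄, (V ⟶ U) → Prop)
    (hB : ∀ ⦃V U : C⦄ (f : V ⟶ U), Cov f → ∀ n : ℕ, B ((Arrow.mk f).cechNerve _⦋n⦌))
    (hJ : ∀ ⦃V U : C⦄ (f : V ⟶ U), Cov f → Sieve.generateSingleton f ∈ J U)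
    (hlift : ∀ ⦃I Q : Sheaf J AddCommGrpCat.{max w v}⦄ (q : I ⟶ Q), Epi q → ∀ (U : C), B U →
      ∀ (s : Q.obj.obj (op U)), ∃ (V : C) (f : V ⟶ U), Cov f ∧
        ∃ t : I.obj.obj (op V), q.hom.app (op V) t = Q.obj.map f.op s)

include hB hJ hlift in
/-- The dimension shifting step. -/
theorem step {S : ShortComplex (SheafOfModules.{max w v} R)} (hS : S.ShortExact) [Injective S.X₂]
    (hF : CechAcyc Cov S.X₁.val.presheaf) :
    (∀ U : C, B U → Function.Surjective (S.g.val.app (op U))) ∧ CechAcyc Cov S.X₃.val.presheaf := by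
  have hT := shortExact_toSheaf hS
  have hepi : Epi ((SheafOfModules.toSheaf.{max w v} R).map S.g) := hT.epi_g
  have hI : CechAcyc Cov S.X₂.val.presheaf := fun V U f _ =>
    exact_of_injective.{w} R S.X₂ (contractible_cechNerve f)
  exact cartan_step'.{w} B Cov hB hJ
    ((SheafOfModules.toSheaf.{max w v} R).map S.f) ((SheafOfModules.toSheaf.{max w v} R).map S.g) _ hT
    (fun U hU s => hlift _ hepi U hU s) hF hI

variable [HasExt.{w'} (SheafOfModules.{max w v} R)] [EnoughInjectives (SheafOfModules.{max w v} R)]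

include hB hJ hlift in
/-- Cartan's criterion. -/
theorem subsingleton_ext (F : SheafOfModules.{max w v} R) (hF : CechAcyc Cov F.val.presheaf)
    (U : C) (hU : B U) (p : ℕ) : Subsingleton (Ext (OU.{w} R U) F (p + 1)) := by
  induction p generalizing F with
  | zero =>
    obtain ⟨S, hS, e, hI⟩ := exists_shortExact_injective F
    subst e
    refine subsingleton_ext_one hS _ (Ext.subsingleton_of_injective _ _ 0) (fun b => ?_)
    obtain ⟨x, hx⟩ := (step B Cov hB hJ hlift hS hF).1 U hU (OUequiv b)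
    refine ⟨OUequiv.{w}.symm x, ?_⟩
    rw [OUequiv_symm_comp, hx, Equiv.symm_apply_apply]
  | succ p ih =>
    obtain ⟨S, hS, e, hI⟩ := exists_shortExact_injective F
    subst e
    exact subsingleton_ext_succ_iff hS _ p (Ext.subsingleton_of_injective _ _ _)
      (ih S.X₃ (step B Cov hB hJ hlift hS hF).2)

omit [HasExt.{w'} (SheafOfModules.{max w v} R)] in
include hB hJ hlift in
/-- Cartan's criterion, in terms of morphisms in the derived category. -/
theorem hom_eq_zero [HasDerivedCategory.{w'} (SheafOfModules.{max w v} R)]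
    (F : SheafOfModules.{max w v} R) (hF : CechAcyc Cov F.val.presheaf)
    (U : C) (hU : B U) (a b : ℤ) (hab : b < a)
    (f : (DerivedCategory.singleFunctor _ a).obj (OU.{w} R U) ⟶
      (DerivedCategory.singleFunctor _ b).obj F) : f = 0 := by
  have : HasExt.{w'} (SheafOfModules.{max w v} R) := hasExt_of_hasDerivedCategory _
  exact hom_single_eq_zero _ _ (fun n x => by
    have := subsingleton_ext B Cov hB hJ hlift F hF U hU n
    exact Subsingleton.elim _ _) a b hab f

end K646.Cartan
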