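import Groth.Agent.AlgSp.K646.Free
import Groth.Agent.Etbase.CechCartan
import Mathlib.CategoryTheory.Preadditive.Injective.Preserves

/-!
# Čech exactness of injective modules on a site (rings one universe up)

* `exact_of_injective_presheaf` : an injective presheaf of modules is exact in positive degrees on
  contractible simplicial objects;
* `exact_of_injective` : the same for injective sheaves of modules.
-/

set_option autoImplicit false

universe w v u

open CategoryTheory CategoryTheory.Limits Opposite Simplicial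

namespace K646.CechInj

open Groth.Agent.Etbase.CechCartan K646.Free

section presheaf

variable {C : Type u} [Category.{v} C] {R : Cᵒᵖ ⥤ RingCat.{max w v}}

theorem lin_ext {T W : C} {N : Type*} [AddCommGroup N] [Module (R.obj (op W)) N]
    {φ ψ : (fy.{w} R T).obj (op W) →ₗ[R.obj (op W)] N} (h : ∀ g : W ⟶ T, φ (gen g) = ψ (gen g)) :
    φ = ψ := by
  apply Finsupp.lhom_ext'
  rintro ⟨g⟩
  apply LinearMap.ext_ring
  exact h g

/-- Linear maps out of the sections of a free presheaf. -/
noncomputable def lin {T W : C} {N : Type*} [AddCommGroup N] [Module (R.obj (op W)) N]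
    (f : (W ⟶ T) → N) : (fy.{w} R T).obj (op W) →ₗ[R.obj (op W)] N :=
  Finsupp.lift N (R.obj (op W)) (ULift.{w} (W ⟶ T)) (fun g => f g.down)

theorem lin_gen {T W : C} {N : Type*} [AddCommGroup N] [Module (R.obj (op W)) N]
    (f : (W ⟶ T) → N) (g : W ⟶ T) : lin (R := R) f (gen g) = f g := by
  refine (Finsupp.lift_apply _ _ _ _ _).trans ?_
  refine (Finsupp.sum_single_index ?_).trans ?_
  · exact zero_smul _ _
  · exact one_smul _ _

/-- The differential on free presheaves. -/
noncomputable def dM (R : Cᵒᵖ ⥤ RingCat.{max w v}) (E : SimplicialObject C) (n : ℕ) :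
    fy.{w} R (E _⦋n + 1⦌) ⟶ fy.{w} R (E _⦋n⦌) :=
  ∑ i : Fin (n + 2), (-1 : ℤ) ^ (i : ℕ) • (PresheafOfModules.free R).map (uliftYoneda.{w}.map (E.δ i))

/-- Evaluation of morphisms at an element, as an additive map. -/
noncomputable def evHom {M N : PresheafOfModules.{max w v} R} (W : C) (x : M.obj (op W)) :
    (M ⟶ N) →+ N.obj (op W) where
  toFun f := f.app (op W) x
  map_zero' := rfl
  map_add' _ _ := rfl

theorem app_sum {M N : PresheafOfModules.{max w v} R} {ι : Type*} (s : Finset ι) (f : ι → (M ⟶ N))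
    (W : C) (x : M.obj (op W)) :
    (∑ i ∈ s, f i).app (op W) x = ∑ i ∈ s, (f i).app (op W) x :=
  map_sum (evHom.{w} W x) f s

theorem app_zsmul {M N : PresheafOfModules.{max w v} R} (k : ℤ) (f : M ⟶ N)
    (W : C) (x : M.obj (op W)) : (k • f).app (op W) x = k • f.app (op W) x :=
  map_zsmul (evHom.{w} W x) k f

theorem dM_gen (E : SimplicialObject C) (n : ℕ) {W : C} (g : W ⟶ E _⦋n + 1⦌) :
    (dM.{w} R E n).app (op W) (gen g) =
      ∑ i : Fin (n + 2), (-1 : ℤ) ^ (i : ℕ) • gen (R := R) (g ≫ E.δ i) := by
  rw [dM, app_sum]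
  refine Finset.sum_congr rfl fun i _ => ?_
  rw [app_zsmul, freeMap_gen]

theorem equiv_dM {M : PresheafOfModules.{max w v} R} (E : SimplicialObject C) (n : ℕ)
    (φ : fy.{w} R (E _⦋n⦌) ⟶ M) :
    fyEquiv (dM R E n ≫ φ) = dC M.presheaf E n (fyEquiv φ) := by
  refine Eq.trans ?_ (dC_apply M.presheaf E n (fyEquiv φ)).symm
  rw [fyEquiv_eq, PresheafOfModules.comp_app]
  change φ.app _ ((dM R E n).app _ _) = _
  rw [dM_gen, map_sum]
  refine Finset.sum_congr rfl fun i _ => ?_
  rw [map_zsmul, Category.id_comp, app_gen]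
  rfl

/-- Contracting homotopy on free modules. -/
theorem exists_of_dM_eq_zero {E : SimplicialObject C} (hE : Contractible E) (n : ℕ) (W : C)
    (z : (fy.{w} R (E _⦋n + 1⦌)).obj (op W)) (hz : (dM R E n).app (op W) z = 0) :
    ∃ z', (dM.{w} R E (n + 1)).app (op W) z' = z := by
  obtain ⟨h, h0, hs⟩ := hE W
  let H : ∀ n : ℕ, (fy.{w} R (E _⦋n⦌)).obj (op W) →ₗ[R.obj (op W)] (fy.{w} R (E _⦋n + 1⦌)).obj (op W) :=
    fun n => lin (fun g => gen (h n g))
  have key : ((dM R E (n + 1)).app (op W)).hom.comp (H (n + 1)) + (H n).comp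
      ((dM R E n).app (op W)).hom = LinearMap.id := by
    apply lin_ext
    intro g
    change (dM R E (n + 1)).app (op W) (H (n + 1) (gen g)) +
      H n ((dM R E n).app (op W) (gen g)) = gen g
    rw [lin_gen, dM_gen, dM_gen, Fin.sum_univ_succ, map_sum]
    have h1 : ∀ i : Fin (n + 2), (-1 : ℤ) ^ ((i.succ : Fin (n + 3)) : ℕ) •
        gen (R := R) (h (n + 1) g ≫ E.δ i.succ) =
        - ((-1 : ℤ) ^ (i : ℕ) • gen (R := R) (h n (g ≫ E.δ i))) := by
      intro i
      rw [hs, Fin.val_succ, pow_succ]
      simp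
    have h2 : ∀ i : Fin (n + 2), H n ((-1 : ℤ) ^ (i : ℕ) • gen (R := R) (g ≫ E.δ i)) =
        ((-1 : ℤ) ^ (i : ℕ) • gen (R := R) (h n (g ≫ E.δ i))) := by
      intro i
      rw [map_zsmul, lin_gen]
    rw [Finset.sum_congr rfl (fun i _ => h1 i), Finset.sum_congr rfl (fun i _ => h2 i), h0,
      Finset.sum_neg_distrib]
    simp
  refine ⟨H (n + 1) z, ?_⟩
  have := LinearMap.congr_fun key z
  change (dM R E (n + 1)).app (op W) (H (n + 1) z) + H n ((dM R E n).app (op W) z) = z at this
  rwa [hz, map_zero, add_zero] at this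

/-- Injective presheaves of modules are exact in positive degrees on contractible simplicial
objects. -/
theorem exact_of_injective_presheaf {E : SimplicialObject C} (hE : Contractible E)
    (I : PresheafOfModules.{max w v} R) [Injective I] : Exact' I.presheaf E := by
  intro n x hx
  let φ : fy.{w} R (E _⦋n + 1⦌) ⟶ I := fyEquiv.symm x
  have hφ : fyEquiv φ = x := Equiv.apply_symm_apply _ _
  have h0 : dM R E (n + 1) ≫ φ = 0 := by
    apply fyEquiv.injective
    rw [equiv_dM, hφ, hx]
    rfl
  have h1 : kernel.ι (dM R E n) ≫ φ = 0 := by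
    apply PresheafOfModules.hom_ext
    rintro ⟨W⟩
    ext z
    have h2 : (dM R E n).app (op W) ((kernel.ι (dM R E n)).app (op W) z) = 0 :=
      congrArg (fun k => PresheafOfModules.Hom.app k (op W) z) (kernel.condition (dM R E n))
    obtain ⟨z', hz'⟩ := exists_of_dM_eq_zero hE n W _ h2
    change φ.app (op W) ((kernel.ι (dM R E n)).app (op W) z) = 0
    rw [← hz']
    exact congrArg (fun k => PresheafOfModules.Hom.app k (op W) z') h0
  let y : fy.{w} R (E _⦋n⦌) ⟶ I :=
    Injective.factorThru (cokernel.desc _ _ h1 : Abelian.coimage (dM R E n) ⟶ I)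
      (Abelian.factorThruCoimage (dM R E n))
  have hy : dM R E n ≫ y = φ := by
    rw [← Abelian.coimage.fac (dM R E n), Category.assoc, Injective.comp_factorThru]
    exact cokernel.π_desc _ _ _
  refine ⟨fyEquiv y, ?_⟩
  rw [← equiv_dM, hy, hφ]

end presheaf

section sheaf

variable {C : Type u} [Category.{v} C] {J : GrothendieckTopology C}
  [HasSheafify J AddCommGrpCat.{max w v}] [J.WEqualsLocallyBijective AddCommGrpCat.{max w v}]

/-- The presheaf of modules underlying an injective sheaf of modules is injective. -/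
theorem injective_val (O : Sheaf J RingCat.{max w v}) (I : SheafOfModules.{max w v} O) [Injective I] :
    Injective I.val := by
  have adj := PresheafOfModules.sheafificationAdjunction.{max w v} (𝟙 O.obj)
  have : (PresheafOfModules.sheafification.{max w v} (𝟙 O.obj)).PreservesMonomorphisms :=
    inferInstance
  exact Adjunction.map_injective adj I ‹_›

theorem exact_of_injective (O : Sheaf J RingCat.{max w v}) (I : SheafOfModules.{max w v} O) [Injective I]
    {E : SimplicialObject C} (hE : Contractible E) : Exact' I.val.presheaf E :=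
  have := injective_val.{w} O I
  exact_of_injective_presheaf.{w} hE I.val

end sheaf

end K646.CechInj
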