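import Groth.Agent.AlgSp.K646.Inst
import Groth.Agent.CohtopA.DerProd
import Groth.Agent.PerfA.HomologyCoprod

/-!
# Products and coproducts in `D(O_X)` and `D(O_X|_E)`
-/

set_option autoImplicit false

universe t u

open CategoryTheory CategoryTheory.Limits AlgebraicGeometry Opposite

namespace K646.DInst

attribute [local instance] HasDerivedCategory.standard

variable {S : Scheme.{u}} (X : AlgSp.Sp S)

theorem hasProductsOfShape (T : Type (u + 1)) : HasProductsOfShape T (AlgSp.DModEt X) := by
  have := K646.Inst.isGrothendieckAbelian X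
  exact Groth.Agent.CohtopA.DerProd.hasLimitsOfShape_discrete.{u + 2, u + 1} (AlgSp.ModEt X) T

theorem hasCoproductsOfShape (T : Type (u + 1)) : HasCoproductsOfShape T (AlgSp.DModEt X) := by
  have := K646.Inst.isGrothendieckAbelian X
  exact Groth.Agent.CohtopA.DerProd.hasColimitsOfShape_discrete.{u + 2, u + 1} (AlgSp.ModEt X) T

theorem hasProductsOfShape_nat : HasProductsOfShape ℕ (AlgSp.DModEt X) := by
  have := K646.Inst.isGrothendieckAbelian X
  exact Groth.Agent.CohtopA.DerProd.hasLimitsOfShape_discrete.{u + 2, u + 1} (AlgSp.ModEt X) ℕ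

theorem hasCoproductsOfShape_nat : HasCoproductsOfShape ℕ (AlgSp.DModEt X) := by
  have := K646.Inst.isGrothendieckAbelian X
  exact Groth.Agent.CohtopA.DerProd.hasColimitsOfShape_discrete.{u + 2, u + 1} (AlgSp.ModEt X) ℕ

variable {X} (E : AlgSp.EtOver X)

theorem hasProductsOfShapeOn (T : Type (u + 1)) : HasProductsOfShape T (DCoh.DMod (AlgSp.OEtOn E)) := by
  have := K646.Inst.isGrothendieckAbelianOn E
  exact Groth.Agent.CohtopA.DerProd.hasLimitsOfShape_discrete.{u + 2, u + 1} (AlgSp.ModEtOn E) T

theorem hasCoproductsOfShapeOn (T : Type (u + 1)) : HasCoproductsOfShape T (DCoh.DMod (AlgSp.OEtOn E)) := by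
  have := K646.Inst.isGrothendieckAbelianOn E
  exact Groth.Agent.CohtopA.DerProd.hasColimitsOfShape_discrete.{u + 2, u + 1} (AlgSp.ModEtOn E) T

theorem hasProductsOfShapeOn_nat : HasProductsOfShape ℕ (DCoh.DMod (AlgSp.OEtOn E)) := by
  have := K646.Inst.isGrothendieckAbelianOn E
  exact Groth.Agent.CohtopA.DerProd.hasLimitsOfShape_discrete.{u + 2, u + 1} (AlgSp.ModEtOn E) ℕ

theorem hasCoproductsOfShapeOn_nat : HasCoproductsOfShape ℕ (DCoh.DMod (AlgSp.OEtOn E)) := by
  have := K646.Inst.isGrothendieckAbelianOn E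
  exact Groth.Agent.CohtopA.DerProd.hasColimitsOfShape_discrete.{u + 2, u + 1} (AlgSp.ModEtOn E) ℕ

theorem preservesCoproducts_homology {A : Type*} [Category* A] [Abelian A] [IsGrothendieckAbelian.{u} A]
    [HasDerivedCategory A] (J : Type u) (m : ℤ) :
    PreservesColimitsOfShape (Discrete J) (DerivedCategory.homologyFunctor A m) := by
  have h1 : HasExactColimitsOfShape (Discrete J) A := inferInstance
  infer_instance

end K646.DInst
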