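import Groth.Agent.PerfA.PostHom

/-!
# Maps `S_q G ⟶ K` and maps `G ⟶ H^q K`; towers
-/

set_option autoImplicit false

universe w v u

open CategoryTheory Category Limits Pretriangulated Triangulated DerivedCategory Opposite

namespace K646.DSec

open Groth.Agent.PerfA.PostAbs Groth.Agent.PerfA.PostTower Groth.Agent.PerfA.PostHom

variable {C : Type u} [Category.{v} C] [Abelian C] [HasDerivedCategory.{w} C]

/-- The map `G ⟶ H^q K` attached to `S_q G ⟶ K`. -/
noncomputable def hm {G : C} {K : DerivedCategory C} {q : ℤ} (φ : (singleFunctor C q).obj G ⟶ K) :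
    G ⟶ (homologyFunctor C q).obj K :=
  (singleFunctorCompHomologyFunctorIso C q).inv.app G ≫ (homologyFunctor C q).map φ

theorem hm_comp {G : C} {K L : DerivedCategory C} {q : ℤ} (φ : (singleFunctor C q).obj G ⟶ K) (f : K ⟶ L) :
    hm (φ ≫ f) = hm φ ≫ (homologyFunctor C q).map f := by
  rw [hm, hm, Functor.map_comp, assoc]

theorem hm_precomp {G G' : C} {K : DerivedCategory C} {q : ℤ} (g : G' ⟶ G) (φ : (singleFunctor C q).obj G ⟶ K) :
    hm ((singleFunctor C q).map g ≫ φ) = g ≫ hm φ := by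
  rw [hm, hm, Functor.map_comp, ← assoc, ← assoc]
  congr 1
  exact ((singleFunctorCompHomologyFunctorIso C q).inv.naturality g).symm

theorem hm_zero {G : C} {K : DerivedCategory C} {q : ℤ} :
    hm (0 : (singleFunctor C q).obj G ⟶ K) = 0 := by
  rw [hm, Functor.map_zero, comp_zero]

theorem hm_sub {G : C} {K : DerivedCategory C} {q : ℤ} (φ ψ : (singleFunctor C q).obj G ⟶ K) :
    hm (φ - ψ) = hm φ - hm ψ := by
  rw [hm, hm, hm, Functor.map_sub, Preadditive.comp_sub]

/-- every `G ⟶ H^q K` comes, after an epimorphism, from a map in the derived category -/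
theorem exists_epi (K : DerivedCategory C) (q : ℤ) :
    ∃ (Z : C) (ζ : (singleFunctor C q).obj Z ⟶ K), Epi (hm ζ) := by
  obtain ⟨Z, ζ, hζ⟩ := exists_single_epi K q
  refine ⟨Z, ζ, ?_⟩
  unfold hm
  infer_instance

theorem bijective_hm {P Qc : ObjectProperty C} (hPQ : Acyc P Qc) [HasProductsOfShape ℕ (DerivedCategory C)]
    {K : DerivedCategory C} (hK : CohIn Qc K) {G : C} (hG : P G) (q : ℤ) :
    Function.Bijective (hm : ((singleFunctor C q).obj G ⟶ K) → (G ⟶ (homologyFunctor C q).obj K)) := by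
  have h1 := hPQ.bijective_homology hK hG q
  have h2 : Function.Bijective (fun f : (homologyFunctor C q).obj ((singleFunctor C q).obj G) ⟶
      (homologyFunctor C q).obj K => (singleFunctorCompHomologyFunctorIso C q).inv.app G ≫ f) := by
    constructor
    · intro f g hfg
      exact (cancel_epi _).1 hfg
    · intro f
      refine ⟨(singleFunctorCompHomologyFunctorIso C q).hom.app G ≫ f, ?_⟩
      change _ ≫ _ ≫ f = f
      rw [← assoc]
      have := (singleFunctorCompHomologyFunctorIso C q).inv_hom_id_app G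
      exact (congrArg (fun z => z ≫ f) this).trans (id_comp f)
  exact h2.comp h1

section tower

variable {P Qc : ObjectProperty C} (hPQ : Acyc P Qc) [HasProductsOfShape ℕ (DerivedCategory C)]
  (K : ℕ → DerivedCategory C) (t : ∀ n, K (n + 1) ⟶ K n) (hK : ∀ n, CohIn Qc (K n))
  (hs : ∀ (q : ℤ) (n : ℕ) (G : C), P G → ∀ y : G ⟶ (homologyFunctor C q).obj (K n),
    ∃ z : G ⟶ (homologyFunctor C q).obj (K (n + 1)), z ≫ (homologyFunctor C q).map (t n) = y)
  [HasProduct K] {L : DerivedCategory C} (a : L ⟶ ∏ᶜ K) (c : (∏ᶜ K) ⟶ L⟦(1 : ℤ)⟧)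
  (hT : Triangle.mk a (oneSub t) c ∈ distTriang (DerivedCategory C))

include hPQ hK

include hs in
theorem lift_single (G : C) (hG : P G) (q : ℤ) (n : ℕ) (y : (singleFunctor C q).obj G ⟶ K n) :
    ∃ z : (singleFunctor C q).obj G ⟶ K (n + 1), z ≫ t n = y := by
  obtain ⟨z, hz⟩ := hs q n G hG (hm y)
  obtain ⟨z', hz'⟩ := (bijective_hm hPQ (hK (n + 1)) hG q).2 z
  refine ⟨z', (bijective_hm hPQ (hK n) hG q).1 ?_⟩
  rw [hm_comp, hz', hz]

include hs hT in
theorem eq_zero (G : C) (hG : P G) (q : ℤ) (φ : (singleFunctor C q).obj G ⟶ L)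
    (h : ∀ n, hm (φ ≫ a ≫ Pi.π K n) = 0) : φ = 0 := by
  refine milnor_unique t a c hT _ (fun n y => ?_) φ (fun n => ?_)
  · let e := ((singleFunctors C).shiftIso 1 (q - 1) q (by lia)).app G
    obtain ⟨z, hz⟩ := lift_single hPQ K t hK hs G hG (q - 1) n (e.inv ≫ y)
    refine ⟨e.hom ≫ z, ?_⟩
    rw [assoc, hz, e.hom_inv_id_assoc]
  · apply (bijective_hm hPQ (hK n) hG q).1
    rw [h n, hm_zero]

omit [HasProductsOfShape ℕ (DerivedCategory C)] in
include hT in
theorem exists_of_compat [HasProductsOfShape ℕ (DerivedCategory C)] (G : C) (hG : P G) (q : ℤ)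
    (x : ∀ n, G ⟶ (homologyFunctor C q).obj (K n))
    (hx : ∀ n, x (n + 1) ≫ (homologyFunctor C q).map (t n) = x n) :
    ∃ φ : (singleFunctor C q).obj G ⟶ L, ∀ n, hm (φ ≫ a ≫ Pi.π K n) = x n := by
  choose y hy using fun n => (bijective_hm hPQ (hK n) hG q).2 (x n)
  obtain ⟨φ, hφ⟩ := milnor_exists t a c hT ((singleFunctor C q).obj G) y (fun n => by
    apply (bijective_hm hPQ (hK n) hG q).1
    rw [hm_comp, hy, hx, hy])
  exact ⟨φ, fun n => by rw [hφ, hy]⟩

end tower

end K646.DSec
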