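import Groth.Agent.AlgSp.K646.QCech
import Groth.Agent.PerfA.PostHom

/-!
# The pair (affine `j_! O_U`, quasi-coherent modules) is acyclic, on `X` and on slices
-/

set_option autoImplicit false

universe u

open CategoryTheory CategoryTheory.Limits AlgebraicGeometry Opposite Simplicial

set_option backward.isDefEq.respectTransparency false

namespace K646.AcycX

open Groth.Agent.Etbase.CechCartan Groth.Agent.Etbase.FFExact Groth.Agent.CohtopB.CechCrit
  K644.Site K644.Psh K646.EtAcyc K646.EtSite K646.QCech K646.Bas Groth.Agent.PerfA.PostHom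
  Groth.Agent.PerfA.PostAbs

attribute [local instance] HasDerivedCategory.standard

variable {S : Scheme.{u}} (X : AlgSp.Sp S)

/-- The objects `j_! O_U`, `U` affine. -/
def AffOU : ObjectProperty (AlgSp.ModEt X) := fun G => ∃ U : AlgSp.EtOver X, IsAffine (sch U) ∧
  G = K646.Inst.OU U

/-- Quasi-coherent modules. -/
def Qc : ObjectProperty (AlgSp.ModEt X) := fun M => M.IsQuasicoherent

variable {X} in
/-- The objects `j_! O_U`, `U` affine over `E`. -/
def AffOUOn (E : AlgSp.EtOver X) : ObjectProperty (AlgSp.ModEtOn E) := fun G => ∃ U : Over E,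
  IsAffine (sch U.left) ∧ G = K646.Free.OU.{u + 1} (AlgSp.OEtOn E) U

variable {X} in
/-- Quasi-coherent modules. -/
def QcOn (E : AlgSp.EtOver X) : ObjectProperty (AlgSp.ModEtOn E) := fun M => M.IsQuasicoherent

theorem detects : Detects (AffOU X) := by
  intro A B f hf
  by_contra hcon
  push Not at hcon
  apply hf
  refine K644.Exact.hom_ext_affine (T := AlgSp.EtOver.toScheme X) f 0 (fun U hU x => ?_)
  have h1 := hcon _ ⟨U, hU, rfl⟩ (K646.Free.OUequiv.{u + 1}.symm x)
  have h2 := congrArg K646.Free.OUequiv.{u + 1} h1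
  rw [K646.Free.OUequiv_comp, Equiv.apply_symm_apply] at h2
  exact h2

theorem detectsOn {X : AlgSp.Sp S} (E : AlgSp.EtOver X) : Detects (AffOUOn E) := by
  intro A B f hf
  by_contra hcon
  push Not at hcon
  apply hf
  refine K644.Exact.hom_ext_affine (T := K644.Slice.oT (AlgSp.EtOver.toScheme X) E) f 0 (fun U hU x => ?_)
  have h1 := hcon _ ⟨U, hU, rfl⟩ (K646.Free.OUequiv.{u + 1}.symm x)
  have h2 := congrArg K646.Free.OUequiv.{u + 1} h1
  rw [K646.Free.OUequiv_comp, Equiv.apply_symm_apply] at h2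
  exact h2

theorem isBC_of_subsingleton {A B M M' : Type*} [CommRing A] [CommRing B] [AddCommGroup M]
    [AddCommGroup M'] [Module A M] [Module B M'] [Subsingleton M] [Subsingleton M'] (φ : A →+* B)
    (ψ : M →+ M') : IsBC φ ψ := by
  refine ⟨fun a m => Subsingleton.elim _ _, ?_⟩
  let _ : Algebra A B := φ.toAlgebra
  let _ : Module A M' := Module.compHom M' φ
  have : IsScalarTower A B M' := ⟨fun a b m => Subsingleton.elim _ _⟩
  refine IsBaseChange.of_lift_unique _ ?_
  intro Q _ _ _ _ g
  refine ⟨0, by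
    ext x
    have : x = 0 := Subsingleton.elim _ _
    rw [this]
    simp, fun k hk => ?_⟩
  ext x
  have : x = 0 := Subsingleton.elim _ _
  rw [this]
  simp

variable {X}

theorem cechAcycOn (E : AlgSp.EtOver X) (M : AlgSp.ModEtOn E) [M.IsQuasicoherent] :
    CechAcyc (covOver E (K646.EtAcyc.AffCov X)) M.val.presheaf := fun _ _ f hf =>
  exact'_of_isQC (T := K644.Slice.oT (AlgSp.EtOver.toScheme X) E) (J := (AlgSp.etTop X).over E) f
    (K644.QCoh.isQC_of_isQuasicoherent M) ((K644.Slice.affCov_over f).2 (affCov hf))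

theorem isQuasicoherent_of_isZero {M : AlgSp.ModEt X} (h : IsZero M) : M.IsQuasicoherent := by
  apply K644.QCoh.isQuasicoherent_of_isQC (T := AlgSp.EtOver.toScheme X)
  intro E1 E g hE1 hE
  have hz : ∀ W : AlgSp.EtOver X, Subsingleton (M.val.presheaf.obj (op W)) := fun W => by
    refine ⟨fun a b => ?_⟩
    have h0 : 𝟙 M = 0 := h.eq_of_src _ _
    have h1 : ∀ s : M.val.presheaf.obj (op W), s = 0 := fun s =>
      congrArg (fun k : M ⟶ M => k.val.app (op W) s) h0
    rw [h1 a, h1 b]
  have := hz E
  have := hz E1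
  exact isBC_of_subsingleton _ _

theorem isQuasicoherentOn_of_isZero {E : AlgSp.EtOver X} {M : AlgSp.ModEtOn E} (h : IsZero M) :
    M.IsQuasicoherent := by
  apply K644.QCoh.isQuasicoherent_of_isQC (T := K644.Slice.oT (AlgSp.EtOver.toScheme X) E)
  intro V U g hV hU
  have hz : ∀ W : Over E, Subsingleton (M.val.presheaf.obj (op W)) := fun W => by
    refine ⟨fun a b => ?_⟩
    have h0 : 𝟙 M = 0 := h.eq_of_src _ _
    have h1 : ∀ s : M.val.presheaf.obj (op W), s = 0 := fun s =>
      congrArg (fun k : M ⟶ M => k.val.app (op W) s) h0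
    rw [h1 a, h1 b]
  have := hz V
  have := hz U
  exact isBC_of_subsingleton _ _

/-- Quasi-coherent modules are acyclic on affine objects. -/
theorem acyc (X : AlgSp.Sp S) : Acyc (AffOU X) (Qc X) where
  detects := detects X
  iso _ _ e h := (SheafOfModules.isQuasicoherent (AlgSp.OEtRing X)).prop_of_iso e h
  zero _ h := isQuasicoherent_of_isZero h
  van := by
    rintro G ⟨U, hU, rfl⟩ M hM m n hmn φ
    have : M.IsQuasicoherent := hM
    exact K646.EtAcyc.hom_eq_zero M (cechAcyc M) U hU m n hmn φ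

/-- Quasi-coherent modules are acyclic on affine objects of a slice. -/
theorem acycOn (E : AlgSp.EtOver X) : Acyc (AffOUOn E) (QcOn E) where
  detects := detectsOn E
  iso _ _ e h := (SheafOfModules.isQuasicoherent (AlgSp.OEtOn E)).prop_of_iso e h
  zero _ h := isQuasicoherentOn_of_isZero h
  van := by
    rintro G ⟨U, hU, rfl⟩ M hM m n hmn φ
    have : M.IsQuasicoherent := hM
    exact K646.EtAcyc.hom_eq_zero_over E M (cechAcycOn E M) U hU m n hmn φ

end K646.AcycX
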