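import Groth.Agent.AlgSp.K646.EtSite
import Groth.Agent.AlgSp.K640.ElemDist

/-!
# Elementary distinguished squares in the small etale site
-/

set_option autoImplicit false

universe u

open CategoryTheory CategoryTheory.Limits AlgebraicGeometry Opposite
open AlgSp K646.EtSite

set_option backward.isDefEq.respectTransparency false

namespace K646.MVSq

variable {S : Scheme.{u}} {X : AlgSp.Sp S}

/-- points of a product in the small etale site -/
theorem exists_pt {E W : AlgSp.EtOver X} (y : ↥(sch E)) (x : ↥(sch W))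
    (h : Points.ofPt E.obj.hom y = Points.ofPt W.obj.hom x) :
    ∃ p : ↥(sch (E ⨯ W)), mor (prod.fst : E ⨯ W ⟶ E) p = y ∧ mor (prod.snd : E ⨯ W ⟶ W) p = x := by
  obtain ⟨v, hv1, hv2⟩ := K610.Base.exists_of_isPullback_yon (W.property.1.isPullback E.obj.hom)
    (Points.ofScheme W.obj.left x) y (by rw [← Points.ofPt_eq_map_ofScheme, h])
  let v' : ↥(sch (EtOver.prodObj E W)) := v
  have h1 : mor (EtOver.prodFst E W) v' = y := hv2
  have h2 : mor (EtOver.prodSnd E W) v' = x := by
    have h3 : (yon S).map (EtOver.prodSnd E W).hom.left = W.property.1.fst E.obj.hom := by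
      change (yon S).map (W.property.1.fst' E.obj.hom) = _
      rw [Functor.relativelyRepresentable.map_fst']
    rw [← h3] at hv1
    have h4 := congrArg (Points.toScheme W.obj.left) hv1
    rw [Points.toScheme_ofPt, Points.toScheme_ofScheme] at h4
    exact h4
  let e : EtOver.prodObj E W ⟶ E ⨯ W := prod.lift (EtOver.prodFst E W) (EtOver.prodSnd E W)
  refine ⟨mor e v', ?_, ?_⟩
  · rw [← h1, ← prod.lift_fst (EtOver.prodFst E W) (EtOver.prodSnd E W)]
    rfl
  · rw [← h2, ← prod.lift_snd (EtOver.prodFst E W) (EtOver.prodSnd E W)]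
    rfl

theorem ofPt_mor {E E' : AlgSp.EtOver X} (g : E ⟶ E') (x : ↥(sch E)) :
    Points.ofPt E'.obj.hom (mor g x) = Points.ofPt E.obj.hom x := by
  rw [← K610.Base.ofPt_map_comp, EtOver.w g]

variable {U V : AlgSp.EtOver X} (h : IsElemDistSq U.obj.hom V.obj.hom)

include h

/-- jointly surjective -/
theorem cover (W : AlgSp.EtOver X) (x : ↥(sch W)) :
    (x ∈ Set.range (mor (prod.snd : U ⨯ W ⟶ W))) ∨ (x ∈ Set.range (mor (prod.snd : V ⨯ W ⟶ W))) := by
  obtain ⟨hj, hf, T, P', i, p₁, p₂, ⟨hi, hrange, hred⟩, sq, hiso⟩ := h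
  by_cases ht : Points.ofPt W.obj.hom x ∈ Set.range (Points.map U.obj.hom)
  · obtain ⟨z, hz⟩ := ht
    obtain ⟨y, rfl⟩ := (Points.schemeEquiv U.obj.left).surjective z
    obtain ⟨p, -, hp⟩ := exists_pt (E := U) (W := W) y x (by
      rw [Points.ofPt_eq_map_ofScheme]
      exact hz)
    exact Or.inl ⟨p, hp⟩
  · have ht' : Points.ofPt W.obj.hom x ∈ Set.range (Points.map i) := by rw [hrange]; exact ht
    obtain ⟨z, hz⟩ := ht'
    have h3 : Points.map V.obj.hom (Points.map p₂ (Points.map (inv p₁) z)) = Points.ofPt W.obj.hom x := by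
      rw [← Points.map_comp, ← Points.map_comp, ← sq.w, IsIso.inv_hom_id_assoc, hz]
    obtain ⟨y, hy⟩ := (Points.schemeEquiv V.obj.left).surjective (Points.map p₂ (Points.map (inv p₁) z))
    obtain ⟨p, -, hp⟩ := exists_pt (E := V) (W := W) y x (by
      rw [Points.ofPt_eq_map_ofScheme, ← h3, ← hy]
      rfl)
    exact Or.inr ⟨p, hp⟩

/-- the open part is a subobject of the final sheaf -/
theorem mono_U {E : AlgSp.EtOver X} (a b : E ⟶ U) : a = b := by
  obtain ⟨R', d, fst', sq'⟩ := h.1.1 E.obj.hom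
  have hd : IsOpenImmersion d.left := h.1.2 _ _ _ sq'
  obtain ⟨a', ha⟩ := (yon S).map_surjective (sq'.lift ((yon S).map a.hom.left) (𝟙 _)
    (by rw [Category.id_comp]; exact EtOver.w a))
  obtain ⟨b', hb⟩ := (yon S).map_surjective (sq'.lift ((yon S).map b.hom.left) (𝟙 _)
    (by rw [Category.id_comp]; exact EtOver.w b))
  have hmono : Mono d := by
    refine ⟨fun x y hxy => Over.OverMorphism.ext ?_⟩
    rw [← cancel_mono d.left]
    exact congrArg (fun z => z.left) hxy
  have hab : a' = b' := by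
    rw [← cancel_mono d]
    apply (yon S).map_injective
    rw [Functor.map_comp, Functor.map_comp, ha, hb, sq'.lift_snd, sq'.lift_snd]
  apply EtOver.hom_ext
  apply (yon S).map_injective
  rw [← sq'.lift_fst ((yon S).map a.hom.left) (𝟙 _) (by rw [Category.id_comp]; exact EtOver.w a), ← ha, hab, hb,
    sq'.lift_fst]

/-- two maps to `V` agree or factor through `U` locally -/
theorem agree {E : AlgSp.EtOver X} (a b : E ⟶ V) (x : ↥(sch E)) :
    ∃ (E' : AlgSp.EtOver X) (g : E' ⟶ E), x ∈ Set.range (mor g) ∧ (Nonempty (E' ⟶ U) ∨ g ≫ a = g ≫ b) := by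
  have h0 := h
  obtain ⟨hj, hf, T, P', i, p₁, p₂, ⟨hi, hrange, hred⟩, sq, hiso⟩ := h
  by_cases ht : Points.ofPt E.obj.hom x ∈ Set.range (Points.map U.obj.hom)
  · obtain ⟨z, hz⟩ := ht
    obtain ⟨y, rfl⟩ := (Points.schemeEquiv U.obj.left).surjective z
    obtain ⟨p, -, hp⟩ := exists_pt (E := U) (W := E) y x (by
      rw [Points.ofPt_eq_map_ofScheme]
      exact hz)
    exact ⟨U ⨯ E, prod.snd, ⟨p, hp⟩, Or.inl ⟨prod.fst⟩⟩
  · have ht' : Points.ofPt E.obj.hom x ∈ Set.range (Points.map i) := by rw [hrange]; exact ht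
    let u : (yon S).obj E.obj.left ⟶ (yon S).obj V.obj.left := (yon S).map a.hom.left
    let v : (yon S).obj E.obj.left ⟶ (yon S).obj V.obj.left := (yon S).map b.hom.left
    have hu0 : u ≫ V.obj.hom = E.obj.hom := EtOver.w a
    have hv0 : v ≫ V.obj.hom = E.obj.hom := EtOver.w b
    have huv : u ≫ V.obj.hom = v ≫ V.obj.hom := hu0.trans hv0.symm
    have hVsp : IsAlgSpace ((yon S).obj V.obj.left) := IsAlgSpace.yon_obj _
    obtain ⟨E₁, e, -, -, he⟩ := K640.Equalizer.exists_isEq hVsp.diag u v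
    have h₂ : Etale e.left := K640.Equalizer.etale_of_isEq hVsp hf huv he
    obtain ⟨τ, hτ⟩ := K640.ElemDist.factor_of_mem_range hi x (u ≫ V.obj.hom) (by rw [hu0]; exact ht')
    have h3 : (yon S).map (K640.ElemDist.resMap x) ≫ u = (yon S).map (K640.ElemDist.resMap x) ≫ v := by
      have hu : τ ≫ i = ((yon S).map (K640.ElemDist.resMap x) ≫ u) ≫ V.obj.hom := by
        rw [Category.assoc, hτ]
      have hv : τ ≫ i = ((yon S).map (K640.ElemDist.resMap x) ≫ v) ≫ V.obj.hom := by
        rw [Category.assoc, hτ, huv]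
      have h4 : sq.lift _ _ hu = sq.lift _ _ hv := by
        rw [← cancel_mono p₁, sq.lift_fst, sq.lift_fst]
      rw [← sq.lift_snd _ _ hu, h4, sq.lift_snd]
    obtain ⟨l, hl⟩ := he.lift _ _ h3
    have hx : e.left (l.left (IsLocalRing.closedPoint _)) = x := by
      have : (l ≫ e).left (IsLocalRing.closedPoint _) = x := by rw [hl, K640.ElemDist.resMap_apply]
      exact this
    refine ⟨extObj E e.left, extHom E e.left, ⟨l.left (IsLocalRing.closedPoint _), hx⟩, Or.inr ?_⟩
    apply mor_ext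
    have h5 := (yon S).map_injective ((((yon S).map_comp _ _).trans he.w).trans ((yon S).map_comp _ _).symm)
    exact congrArg (fun k => k.left) h5

end K646.MVSq
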