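import Mathlib.Algebra.Category.ModuleCat.Presheaf.Generator
import Mathlib.Algebra.Category.ModuleCat.Presheaf.Colimits
import Mathlib.Algebra.Category.ModuleCat.Presheaf.Limits
import Mathlib.Algebra.Category.ModuleCat.Sheaf.Colimits
import Mathlib.Algebra.Category.ModuleCat.Sheaf.Limits
import Mathlib.Algebra.Category.ModuleCat.Sheaf.Abelian
import Mathlib.CategoryTheory.Abelian.GrothendieckAxioms.Basic
import Mathlib.CategoryTheory.Abelian.GrothendieckAxioms.FunctorCategory
import Mathlib.CategoryTheory.Abelian.GrothendieckCategory.Basic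
import Mathlib.CategoryTheory.Abelian.GrothendieckCategory.EnoughInjectives
import Mathlib.Algebra.Category.Grp.AB

/-!
# Free sheaves of modules on the objects of a site

For a category `C` with morphisms in `Type v` and a (pre)sheaf of rings with values in `RingCat.{max w v}`:
* `fy R T`: the free presheaf of modules on the (lifted) representable presheaf of `T`, `fyEquiv`;
* `OU R T`: its sheafification, `OUequiv : (OU R T ⟶ M) ≃ M.val.obj (op T)`, natural in `M`;
* `isSeparating`, `isGrothendieckAbelian` : the category of sheaves of modules is Grothendieck abelian.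
-/

set_option autoImplicit false

universe w v u

open CategoryTheory CategoryTheory.Limits Opposite

namespace K646.Free

section Presheaf

variable {C : Type u} [Category.{v} C] (R : Cᵒᵖ ⥤ RingCat.{max w v})

/-- The free presheaf of modules on a representable presheaf. -/
noncomputable abbrev fy (T : C) : PresheafOfModules.{max w v} R :=
  (PresheafOfModules.free R).obj (uliftYoneda.{w}.obj T)

variable {R}

/-- The generator. -/
noncomputable def gen {T W : C} (g : W ⟶ T) : (fy.{w} R T).obj (op W) :=
  ModuleCat.freeMk (R := R.obj (op W)) (X := (uliftYoneda.{w}.obj T).obj (op W)) (ULift.up g)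

/-- Morphisms out of `fy R T` are sections over `T`. -/
noncomputable def fyEquiv {M : PresheafOfModules.{max w v} R} {T : C} :
    (fy.{w} R T ⟶ M) ≃ M.obj (op T) :=
  PresheafOfModules.freeHomEquiv.trans uliftYonedaEquiv.{w}

theorem fyEquiv_comp {M N : PresheafOfModules.{max w v} R} {T : C}
    (m : fy.{w} R T ⟶ M) (φ : M ⟶ N) : fyEquiv (m ≫ φ) = φ.app _ (fyEquiv m) := rfl

theorem fyEquiv_eq {T : C} {M : PresheafOfModules.{max w v} R} (φ : fy.{w} R T ⟶ M) :
    fyEquiv φ = φ.app (op T) (gen (𝟙 T)) := rfl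

theorem fy_hom_ext {T : C} {M : PresheafOfModules.{max w v} R} {φ ψ : fy.{w} R T ⟶ M}
    (h : ∀ (W : C) (g : W ⟶ T), φ.app (op W) (gen g) = ψ.app (op W) (gen g)) : φ = ψ := by
  apply PresheafOfModules.hom_ext
  rintro ⟨W⟩
  apply ModuleCat.free_hom_ext
  rintro ⟨g⟩
  exact h W g

theorem map_gen {T W W' : C} (k : W' ⟶ W) (g : W ⟶ T) :
    (fy.{w} R T).map k.op (gen g) = gen (R := R) (k ≫ g) :=
  ModuleCat.freeDesc_apply _ _

theorem freeMap_gen {T T' W : C} (k : T ⟶ T') (g : W ⟶ T) :
    ((PresheafOfModules.free R).map (uliftYoneda.{w}.map k)).app (op W) (gen g) = gen (R := R) (g ≫ k) :=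
  ModuleCat.free_map_apply _ _

theorem app_gen {T W : C} {M : PresheafOfModules.{max w v} R} (φ : fy.{w} R T ⟶ M) (g : W ⟶ T) :
    φ.app (op W) (gen g) = M.map g.op (fyEquiv φ) := by
  rw [fyEquiv_eq, ← PresheafOfModules.naturality_apply, map_gen, Category.comp_id]

theorem fyEquiv_map_comp {T T' : C} (k : T ⟶ T') {M : PresheafOfModules.{max w v} R}
    (φ : fy.{w} R T' ⟶ M) :
    fyEquiv ((PresheafOfModules.free R).map (uliftYoneda.{w}.map k) ≫ φ) = M.map k.op (fyEquiv φ) := by
  rw [fyEquiv_eq, PresheafOfModules.comp_app]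
  change φ.app _ (((PresheafOfModules.free R).map (uliftYoneda.{w}.map k)).app (op T) (gen (𝟙 T))) = _
  rw [freeMap_gen, Category.id_comp, app_gen]

theorem isSeparating_presheaf : ObjectProperty.IsSeparating (.ofObj (fun T : C => fy.{w} R T)) := by
  intro M N f₁ f₂ h
  ext ⟨X⟩ m
  obtain ⟨g, rfl⟩ := (fyEquiv (M := M)).surjective m
  exact congr_arg fyEquiv (h _ ⟨X⟩ g)

end Presheaf

section Sheaf

variable {C : Type u} [Category.{v} C] {J : GrothendieckTopology C} (R : Sheaf J RingCat.{max w v})
  [HasSheafify J AddCommGrpCat.{max w v}] [J.WEqualsLocallyBijective AddCommGrpCat.{max w v}]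

/-- The sheafification adjunction for modules. -/
noncomputable abbrev adj : PresheafOfModules.sheafification.{max w v} (𝟙 R.obj) ⊣
    SheafOfModules.forget.{max w v} R ⋙ PresheafOfModules.restrictScalars (𝟙 R.obj) :=
  PresheafOfModules.sheafificationAdjunction.{max w v} (𝟙 R.obj)

/-- The functor `T ↦` free presheaf on `T`. -/
noncomputable abbrev fyF : C ⥤ PresheafOfModules.{max w v} R.obj :=
  uliftYoneda.{w} ⋙ PresheafOfModules.free R.obj

/-- The functor `T ↦ j_! O_T`. -/
noncomputable abbrev OUF : C ⥤ SheafOfModules.{max w v} R :=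
  fyF.{w} R ⋙ PresheafOfModules.sheafification.{max w v} (𝟙 R.obj)

/-- The sheaf of modules `j_! O_T` representing sections over `T`. -/
noncomputable abbrev OU (T : C) : SheafOfModules.{max w v} R := (OUF.{w} R).obj T

variable {R}

/-- Morphisms `OU R T ⟶ M` are sections of `M` over `T`. -/
noncomputable def OUequiv {M : SheafOfModules.{max w v} R} {T : C} :
    (OU.{w} R T ⟶ M) ≃ M.val.obj (op T) :=
  ((adj.{w} R).homEquiv (fy.{w} R.obj T) M).trans (fyEquiv (M := M.val))

theorem OUequiv_comp {M N : SheafOfModules.{max w v} R} {T : C} (m : OU.{w} R T ⟶ M) (φ : M ⟶ N) :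
    OUequiv (m ≫ φ) = φ.val.app (op T) (OUequiv m) := by
  change fyEquiv ((adj.{w} R).homEquiv _ _ (m ≫ φ)) = _
  rw [Adjunction.homEquiv_naturality_right]
  rfl

theorem OUequiv_symm_comp {M N : SheafOfModules.{max w v} R} {T : C} (s : M.val.obj (op T)) (φ : M ⟶ N) :
    OUequiv.symm s ≫ φ = OUequiv.{w}.symm (φ.val.app (op T) s) := by
  apply OUequiv.injective
  rw [OUequiv_comp, Equiv.apply_symm_apply, Equiv.apply_symm_apply]

theorem OUequiv_map_comp {T T' : C} (k : T ⟶ T') {M : SheafOfModules.{max w v} R}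
    (φ : OU.{w} R T' ⟶ M) :
    OUequiv ((OUF.{w} R).map k ≫ φ) = M.val.map k.op (OUequiv φ) := by
  change fyEquiv ((adj.{w} R).homEquiv _ _
    ((PresheafOfModules.sheafification.{max w v} (𝟙 R.obj)).map ((fyF.{w} R).map k) ≫ φ)) = _
  rw [Adjunction.homEquiv_naturality_left]
  exact fyEquiv_map_comp k _

theorem OUequiv_add {M : SheafOfModules.{max w v} R} {T : C} (f g : OU.{w} R T ⟶ M) :
    OUequiv (f + g) = OUequiv f + OUequiv g := by
  change fyEquiv ((adj.{w} R).homEquiv _ _ (f + g)) = _
  have : (SheafOfModules.forget.{max w v} R ⋙ PresheafOfModules.restrictScalars (𝟙 R.obj)).Additive :=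
    inferInstance
  rw [Adjunction.homEquiv_unit, Functor.map_add, Preadditive.comp_add, ← Adjunction.homEquiv_unit,
    ← Adjunction.homEquiv_unit]
  rfl

/-- `OUequiv` as an additive equivalence. -/
noncomputable def OUaddEquiv {M : SheafOfModules.{max w v} R} {T : C} :
    (OU.{w} R T ⟶ M) ≃+ M.val.obj (op T) :=
  { OUequiv.{w} with map_add' := OUequiv_add }

variable (R)

theorem isSeparating : ObjectProperty.IsSeparating (.ofObj (fun (X : C) => OU.{w} R X)) := by
  intro F G f g hfg
  apply SheafOfModules.hom_ext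
  refine isSeparating_presheaf.{w} _ _ ?_
  rintro _ ⟨X⟩ a
  have := hfg _ (ObjectProperty.ofObj_apply _ X) ((OUequiv (M := F)).symm (fyEquiv a))
  apply fyEquiv.injective
  have h2 := congrArg OUequiv this
  rw [OUequiv_comp, OUequiv_comp, Equiv.apply_symm_apply] at h2
  exact h2

end Sheaf

section Grothendieck

variable {C : Type (max w v)} [Category.{v} C] {J : GrothendieckTopology C} (R : Sheaf J RingCat.{max w v})
  [HasSheafify J AddCommGrpCat.{max w v}] [J.WEqualsLocallyBijective AddCommGrpCat.{max w v}]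

instance ab5_presheaf (R : Cᵒᵖ ⥤ RingCat.{max w v}) :
    AB5OfSize.{max w v, max w v} (PresheafOfModules.{max w v} R) where
  ofShape K _ _ := by
    have : HasExactColimitsOfShape K (Cᵒᵖ ⥤ AddCommGrpCat.{max w v}) := inferInstance
    have : ReflectsFiniteLimits (PresheafOfModules.toPresheaf.{max w v} R) := ⟨fun J _ _ =>
      reflectsLimitsOfShape_of_reflectsIsomorphisms⟩
    exact HasExactColimitsOfShape.domain_of_functor K (PresheafOfModules.toPresheaf.{max w v} R)

instance ab5_sheaf : AB5OfSize.{max w v, max w v} (SheafOfModules.{max w v} R) where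
  ofShape K _ _ := (PresheafOfModules.sheafificationAdjunction.{max w v} (𝟙 R.obj)).hasExactColimitsOfShape K

/-- Sheaves of modules form a Grothendieck abelian category. -/
theorem isGrothendieckAbelian : IsGrothendieckAbelian.{max w v} (SheafOfModules.{max w v} R) :=
  have : HasSeparator (SheafOfModules.{max w v} R) :=
    ⟨⟨_, (isSeparating.{w} R).isSeparator_coproduct⟩⟩
  {}

end Grothendieck

end K646.Free
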