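import Groth.Prelude.Def_AlgSpD
import Groth.Agent.AlgSp.K646.Free

/-!
# The categories of modules on the small etale site of a sheaf over `S` are Grothendieck abelian

(`AlgSp.ModEt X` and `AlgSp.ModEtOn E`, with universe `u + 1`), plus the objects `OU` for these sites.
-/

set_option autoImplicit false

universe u

open CategoryTheory CategoryTheory.Limits AlgebraicGeometry Opposite

namespace K646.Inst

variable {S : Scheme.{u}}

/-- `Mod(O_X)` on the small etale site is Grothendieck abelian. -/
theorem isGrothendieckAbelian (X : AlgSp.Sp S) : IsGrothendieckAbelian.{u + 1} (AlgSp.ModEt X) :=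
  K646.Free.isGrothendieckAbelian.{u + 1} (AlgSp.OEtRing X)

/-- `Mod(O_U)` on the slice of the small etale site is Grothendieck abelian. -/
theorem isGrothendieckAbelianOn {X : AlgSp.Sp S} (E : AlgSp.EtOver X) :
    IsGrothendieckAbelian.{u + 1} (AlgSp.ModEtOn E) :=
  K646.Free.isGrothendieckAbelian.{u + 1} (AlgSp.OEtOn E)

theorem enoughInjectives (X : AlgSp.Sp S) : EnoughInjectives (AlgSp.ModEt X) :=
  have := isGrothendieckAbelian X
  inferInstance

theorem enoughInjectivesOn {X : AlgSp.Sp S} (E : AlgSp.EtOver X) : EnoughInjectives (AlgSp.ModEtOn E) :=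
  have := isGrothendieckAbelianOn E
  inferInstance

/-- The module `j_! O_E` on the small etale site. -/
noncomputable abbrev OU {X : AlgSp.Sp S} (E : AlgSp.EtOver X) : AlgSp.ModEt X :=
  K646.Free.OU.{u + 1} (AlgSp.OEtRing X) E

end K646.Inst
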