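import Groth.Agent.AlgSp.K646.Free
import Groth.Agent.CohtopA.ModExt
import Mathlib.CategoryTheory.Sites.EpiMono
import Mathlib.CategoryTheory.Sites.Abelian

/-!
# Exactness of sequences of sheaves of modules on a site in terms of sections
-/

set_option autoImplicit false

universe w v u

open CategoryTheory CategoryTheory.Limits Opposite

namespace K646.ModSec

variable {C : Type u} [Category.{v} C] {J : GrothendieckTopology C} {R : Sheaf J RingCat.{w}}

/-- Sections of `F` over `U`. -/
abbrev sec (F : SheafOfModules.{w} R) (U : C) : Type _ := F.val.obj (op U)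

/-- Restriction of sections. -/
noncomputable abbrev res (F : SheafOfModules.{w} R) {U V : C} (g : V ⟶ U) : sec F U →+ sec F V :=
  (F.val.presheaf.map g.op).hom

theorem res_comp (F : SheafOfModules.{w} R) {U V W : C} (g : V ⟶ U) (h : W ⟶ V) (s : sec F U) :
    res F (h ≫ g) s = res F h (res F g s) := by
  change (F.val.presheaf.map (h ≫ g).op).hom s = _
  rw [op_comp, Functor.map_comp]
  rfl

theorem res_id (F : SheafOfModules.{w} R) {U : C} (s : sec F U) : res F (𝟙 U) s = s := by
  change (F.val.presheaf.map (𝟙 U).op).hom s = _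
  rw [op_id, CategoryTheory.Functor.map_id]
  rfl

/-- Value of a morphism on sections. -/
noncomputable abbrev app {F G : SheafOfModules.{w} R} (f : F ⟶ G) (U : C) : sec F U →+ sec G U :=
  (((PresheafOfModules.toPresheaf R.obj).map f.val).app (op U)).hom

theorem app_res {F G : SheafOfModules.{w} R} (f : F ⟶ G) {U V : C} (g : V ⟶ U) (s : sec F U) :
    app f V (res F g s) = res G g (app f U s) :=
  ConcreteCategory.congr_hom (((PresheafOfModules.toPresheaf R.obj).map f.val).naturality g.op) s

theorem app_comp {F G H : SheafOfModules.{w} R} (f : F ⟶ G) (g : G ⟶ H) (U : C) (s : sec F U) :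
    app (f ≫ g) U s = app g U (app f U s) := rfl

theorem app_id {F : SheafOfModules.{w} R} (U : C) (s : sec F U) :
    app (𝟙 F) U s = s := rfl

theorem app_add {F G : SheafOfModules.{w} R} (f g : F ⟶ G) (U : C) (s : sec F U) :
    app (f + g) U s = app f U s + app g U s := rfl

theorem app_neg {F G : SheafOfModules.{w} R} (f : F ⟶ G) (U : C) (s : sec F U) :
    app (-f) U s = - app f U s := rfl

theorem app_sub {F G : SheafOfModules.{w} R} (f g : F ⟶ G) (U : C) (s : sec F U) :
    app (f - g) U s = app f U s - app g U s := rfl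

theorem app_zero {F G : SheafOfModules.{w} R} (U : C) (s : sec F U) :
    app (0 : F ⟶ G) U s = 0 := rfl

theorem hom_ext {F G : SheafOfModules.{w} R} {f g : F ⟶ G} (h : ∀ U s, app f U s = app g U s) :
    f = g := by
  apply SheafOfModules.hom_ext
  apply (PresheafOfModules.toPresheaf R.obj).map_injective
  ext U s
  exact h U.unop s

section biprod

variable {A B M : SheafOfModules.{w} R} [HasBinaryBiproduct A B]

theorem lift_app (f : M ⟶ A) (g : M ⟶ B) (W : C) (s : sec M W) :
    app (biprod.lift f g) W s = app (biprod.inl : A ⟶ A ⊞ B) W (app f W s) + app biprod.inr W (app g W s) := by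
  rw [biprod.lift_eq, app_add, app_comp, app_comp]

theorem desc_app (f : A ⟶ M) (g : B ⟶ M) (W : C) (s : sec (A ⊞ B) W) :
    app (biprod.desc f g) W s = app f W (app biprod.fst W s) + app g W (app biprod.snd W s) := by
  rw [biprod.desc_eq, app_add, app_comp, app_comp]

theorem biprod_total (W : C) (s : sec (A ⊞ B) W) :
    app biprod.inl W (app biprod.fst W s) + app biprod.inr W (app biprod.snd W s) = s := by
  rw [← app_comp, ← app_comp, ← app_add, biprod.total, app_id]

theorem fst_inl (W : C) (a : sec A W) (b : sec B W) :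
    app (biprod.fst : A ⊞ B ⟶ A) W (app biprod.inl W a + app biprod.inr W b) = a := by
  rw [map_add, ← app_comp, ← app_comp, biprod.inl_fst, biprod.inr_fst, app_id, app_zero, add_zero]

theorem snd_inr (W : C) (a : sec A W) (b : sec B W) :
    app (biprod.snd : A ⊞ B ⟶ B) W (app biprod.inl W a + app biprod.inr W b) = b := by
  rw [map_add, ← app_comp, ← app_comp, biprod.inl_snd, biprod.inr_snd, app_id, app_zero, zero_add]

theorem lift_app_eq_zero (f : M ⟶ A) (g : M ⟶ B) (W : C) (s : sec M W) (h : app (biprod.lift f g) W s = 0) :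
    app f W s = 0 ∧ app g W s = 0 := by
  rw [lift_app] at h
  refine ⟨?_, ?_⟩
  · have := congrArg (app (biprod.fst : A ⊞ B ⟶ A) W) h
    rwa [fst_inl, map_zero] at this
  · have := congrArg (app (biprod.snd : A ⊞ B ⟶ B) W) h
    rwa [snd_inr, map_zero] at this

theorem lift_app_eq (f : M ⟶ A) (g : M ⟶ B) (W : C) (s : sec M W) (x : sec (A ⊞ B) W)
    (h1 : app f W s = app biprod.fst W x) (h2 : app g W s = app biprod.snd W x) :
    app (biprod.lift f g) W s = x := by
  rw [lift_app, h1, h2, biprod_total]

end biprod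

variable [HasSheafify J AddCommGrpCat.{w}] [J.WEqualsLocallyBijective AddCommGrpCat.{w}]

set_option linter.unusedSectionVars false

/-- Local surjectivity implies epimorphism. -/
theorem epi_of_local {F G : SheafOfModules.{w} R} (f : F ⟶ G)
    (h : ∀ (U : C) (s : sec G U), ∃ T ∈ J U, ∀ ⦃V : C⦄ (g : V ⟶ U), T g → ∃ t, app f V t = res G g s) :
    Epi f := by
  have h1 : Sheaf.IsLocallySurjective ((SheafOfModules.toSheaf.{w} R).map f) := by
    refine ⟨fun {U} s => ?_⟩
    obtain ⟨T, hT, hT'⟩ := h U s
    exact J.superset_covering (fun V g hg => hT' g hg) hT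
  have h2 : Epi ((SheafOfModules.toSheaf.{w} R).map f) := inferInstance
  exact (SheafOfModules.toSheaf.{w} R).epi_of_epi_map h2

/-- Injectivity implies monomorphism. -/
theorem mono_of_injective {F G : SheafOfModules.{w} R} (f : F ⟶ G)
    (h : ∀ (U : C) (s : sec F U), app f U s = 0 → s = 0) : Mono f := by
  refine ⟨fun {H} a b hab => hom_ext fun U s => ?_⟩
  rw [← sub_eq_zero]
  apply h
  rw [map_sub, ← app_comp, ← app_comp, hab, sub_self]

omit [HasSheafify J AddCommGrpCat.{w}] [J.WEqualsLocallyBijective AddCommGrpCat.{w}] in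
theorem injective_of_mono {F G : SheafOfModules.{w} R} (f : F ⟶ G) [Mono f] (U : C) :
    Function.Injective (app f U) := by
  have h1 : Mono ((SheafOfModules.toSheaf.{w} R).map f) := inferInstance
  have h2 : Mono ((sheafToPresheaf _ _).map ((SheafOfModules.toSheaf.{w} R).map f)) := inferInstance
  have h3 := (NatTrans.mono_iff_mono_app _).1 h2 (op U)
  exact (AddCommGrpCat.mono_iff_injective _).1 h3

theorem exists_local_of_epi {F G : SheafOfModules.{w} R} (f : F ⟶ G) [Epi f] {U : C} (s : sec G U) :
    ∃ T ∈ J U, ∀ ⦃V : C⦄ (g : V ⟶ U), T g → ∃ t, app f V t = res G g s := by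
  have h0 := Groth.Agent.CohtopA.ModExt.toSheaf_preservesFiniteColimits.{w} R
  have h1 : Epi ((SheafOfModules.toSheaf.{w} R).map f) := inferInstance
  have h2 : Sheaf.IsLocallySurjective ((SheafOfModules.toSheaf.{w} R).map f) :=
    (Sheaf.isLocallySurjective_iff_epi' _ _).2 h1
  refine ⟨_, Presheaf.imageSieve_mem J ((SheafOfModules.toSheaf.{w} R).map f).hom s,
    fun V g hg => ?_⟩
  obtain ⟨t, ht⟩ := hg
  exact ⟨t, ht⟩

theorem exists_of_exact (S : ShortComplex (SheafOfModules.{w} R)) (hS : S.Exact) [Mono S.f]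
    {U : C} (s : sec S.X₂ U) (hs : app S.g U s = 0) : ∃ t, app S.f U t = s := by
  let E : SheafOfModules.{w} R ⥤ AddCommGrpCat.{w} :=
    SheafOfModules.toSheaf.{w} R ⋙ sheafToPresheaf _ _ ⋙ (evaluation _ _).obj (op U)
  have : PreservesFiniteLimits E := inferInstance
  have : E.PreservesZeroMorphisms := ⟨fun _ _ => rfl⟩
  have h1 : (S.map E).Exact := hS.map_of_mono_of_preservesKernel _ inferInstance inferInstance
  exact (ShortComplex.ab_exact_iff _).1 h1 s hs

/-- Exactness in terms of local liftings. -/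
theorem exact_of_local (S : ShortComplex (SheafOfModules.{w} R))
    (h : ∀ (U : C) (s : sec S.X₂ U), app S.g U s = 0 →
      ∃ T ∈ J U, ∀ ⦃V : C⦄ (g : V ⟶ U), T g → ∃ t, app S.f V t = res S.X₂ g s) : S.Exact := by
  rw [S.exact_iff_epi_kernel_lift]
  refine epi_of_local _ fun U s => ?_
  obtain ⟨T, hT, hT'⟩ := h U (app (kernel.ι S.g) U s) (by
    rw [← app_comp, kernel.condition]
    rfl)
  refine ⟨T, hT, fun V g hg => ?_⟩
  obtain ⟨t, ht⟩ := hT' g hg
  refine ⟨t, injective_of_mono (kernel.ι S.g) V ?_⟩
  rw [← app_comp, kernel.lift_ι, ht, app_res]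

theorem exact_of_sections (S : ShortComplex (SheafOfModules.{w} R))
    (h : ∀ (U : C) (s : sec S.X₂ U), app S.g U s = 0 → ∃ t, app S.f U t = s) : S.Exact := by
  refine exact_of_local S fun U s hs => ?_
  refine ⟨⊤, J.top_mem U, fun V g _ => ?_⟩
  obtain ⟨t, ht⟩ := h U s hs
  exact ⟨res _ g t, by rw [app_res, ht]⟩

end K646.ModSec
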