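import Mathlib.CategoryTheory.Limits.Constructions.Over.Products
import Mathlib.CategoryTheory.Limits.Constructions.FiniteProductsOfBinaryProducts

/-!
# Finite wide pullbacks from pullbacks
-/

set_option autoImplicit false

universe v u

open CategoryTheory CategoryTheory.Limits

namespace K646.WidePb

variable {C : Type u} [Category.{v} C]

/-- A category with pullbacks has finite wide pullbacks. -/
theorem hasFiniteWidePullbacks [HasPullbacks C] : HasFiniteWidePullbacks C := by
  refine ⟨fun J _ => ⟨fun K => ?_⟩⟩
  let B := K.obj none
  have h1 : HasBinaryProducts (Over B) := Over.ConstructProducts.over_binaryProduct_of_pullback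
  have h2 : HasTerminal (Over B) := Over.over_hasTerminal B
  have h3 : HasFiniteProducts (Over B) := hasFiniteProducts_of_has_binary_and_terminal
  let F : Discrete J ⥤ Over B := Discrete.functor fun j =>
    Over.mk (K.map (WidePullbackShape.Hom.term j))
  have h4 : HasLimit F := inferInstance
  have h5 : HasLimit (Over.ConstructProducts.widePullbackDiagramOfDiagramOver B F) :=
    HasLimit.mk
      { cone := _
        isLimit := IsLimit.ofRightAdjoint (Over.ConstructProducts.conesEquiv B F).toAdjunction
          (limit.isLimit F) }
  have h6 : HasLimit (WidePullbackShape.wideCospan (K.obj none) (fun j => K.obj (some j)) fun j =>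
      K.map (WidePullbackShape.Hom.term j)) := h5
  exact hasLimit_of_iso (WidePullbackShape.diagramIsoWideCospan K).symm

end K646.WidePb
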