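import Groth.Prelude.Def_AlgSpD
import Groth.Agent.AlgSp.K646.WidePb
import Mathlib.CategoryTheory.Sites.EpiMono
import Mathlib.AlgebraicGeometry.Morphisms.Affine

/-!
# The small etale site of a sheaf over `S`: covering sieves, gluing, affine refinements

* `mem_etTop_iff` : covering sieves are the jointly surjective ones.
* `existsUnique_glue`, `ext_of_cover`, `existsUnique_glue_disjoint` : gluing of sections of abelian sheaves.
* `ext E j` for `j : V ⟶ U` etale, `U` the scheme of the object `E`: the object `V ⟶ U ⟶ X`; `opn E W`.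
* `exists_affine_lift` : sections lift along epimorphisms of abelian sheaves after one affine surjective cover.
-/

set_option autoImplicit false

universe v u

open CategoryTheory CategoryTheory.Limits AlgebraicGeometry Opposite

set_option backward.isDefEq.respectTransparency false

namespace K646.EtSite

variable {S : Scheme.{u}} {X : AlgSp.Sp S}

/-- The scheme underlying an object of the small etale site. -/
abbrev sch (E : AlgSp.EtOver X) : Scheme.{u} := E.obj.left.left

/-- The morphism of schemes underlying a morphism of the small etale site. -/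
abbrev mor {E E' : AlgSp.EtOver X} (g : E ⟶ E') : sch E ⟶ sch E' := g.hom.left.left

theorem mor_ext {E E' : AlgSp.EtOver X} {g g' : E ⟶ E'} (h : mor g = mor g') : g = g' :=
  AlgSp.EtOver.hom_ext _ _ (Over.OverMorphism.ext h)

instance etale_mor {E E' : AlgSp.EtOver X} (g : E ⟶ E') : Etale (mor g) := AlgSp.EtOver.etale_left g

/-- Covering sieves of the small etale site are the jointly surjective ones. -/
theorem mem_etTop_iff (E : AlgSp.EtOver X) (T : Sieve E) :
    T ∈ AlgSp.etTop X E ↔ ∀ x : ↥(sch E), ∃ (E' : AlgSp.EtOver X) (g : E' ⟶ E),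
      T g ∧ x ∈ Set.range (mor g) := by
  constructor
  · intro hT x
    have : (AlgSp.etPre X).IsStableUnderBaseChange := inferInstance
    obtain ⟨R, hR, hle⟩ := (AlgSp.etPre X).mem_toGrothendieck_iff_of_isStableUnderComposition.1 hT
    have h2 : R = Presieve.ofArrows (fun i : Σ Y, {f : Y ⟶ E // R f} => i.1) (fun i => i.2.1) := by
      apply le_antisymm
      · intro Y f hf
        exact ⟨(⟨Y, ⟨f, hf⟩⟩ : Σ Y, {f : Y ⟶ E // R f})⟩
      · rintro _ _ ⟨i⟩
        exact i.2.2
    rw [h2] at hR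
    obtain ⟨i, hi⟩ := (AlgSp.ofArrows_mem_etPre_iff _ _).1 hR x
    exact ⟨i.1, i.2.1, hle _ _ i.2.2, hi⟩
  · intro h
    choose V g hg hx using h
    refine (AlgSp.etTop X).superset_covering ?_ (AlgSp.ofArrows_mem_etTop V g (fun x => ⟨x, hx x⟩))
    rw [Sieve.ofArrows, Sieve.generate_le_iff]
    rintro _ _ ⟨x⟩
    exact hg x

theorem ofArrows_mem {E : AlgSp.EtOver X} {ι : Type*} {V : ι → AlgSp.EtOver X} (f : ∀ i, V i ⟶ E)
    (hf : ∀ x : ↥(sch E), ∃ i, x ∈ Set.range (mor (f i))) : Sieve.ofArrows V f ∈ AlgSp.etTop X E :=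
  AlgSp.ofArrows_mem_etTop V f hf

theorem generateSingleton_mem {V E : AlgSp.EtOver X} (f : V ⟶ E) (hf : Function.Surjective (mor f)) :
    Sieve.generateSingleton f ∈ AlgSp.etTop X E := by
  rw [mem_etTop_iff]
  intro x
  obtain ⟨v, hv⟩ := hf x
  exact ⟨V, f, ⟨𝟙 _, by simp⟩, v, hv⟩

instance hasFiniteWidePullbacks : HasFiniteWidePullbacks (AlgSp.EtOver X) :=
  K646.WidePb.hasFiniteWidePullbacks

instance hasWidePullback {V U : AlgSp.EtOver X} (f : V ⟶ U) (n : ℕ) : HasWidePullback (Arrow.mk f).right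
    (fun _ : Fin (n + 1) => (Arrow.mk f).left) fun _ => (Arrow.mk f).hom := inferInstance

section Glue

theorem isSheafFor (F : AlgSp.AbEt X) {W : AlgSp.EtOver X} (T : Sieve W) (hT : T ∈ AlgSp.etTop X W) :
    Presieve.IsSheafFor (F.obj ⋙ forget AddCommGrpCat.{u + 1}) T.arrows := by
  have h := (Presheaf.isSheaf_iff_isSheaf_forget (J := AlgSp.etTop X)
    (forget AddCommGrpCat.{u + 1}) (P' := F.obj)).1 F.property
  rw [isSheaf_iff_isSheaf_of_type] at h
  exact h T hT

variable (F : AlgSp.AbEt X)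

/-- unique gluing along a jointly surjective family -/
theorem existsUnique_glue {W : AlgSp.EtOver X} {ι : Type v} {U : ι → AlgSp.EtOver X} (f : ∀ i, U i ⟶ W)
    (hf : ∀ x : ↥(sch W), ∃ i, x ∈ Set.range (mor (f i))) (s : ∀ i, F.obj.obj (op (U i)))
    (hs : ∀ (i j : ι) (Z : AlgSp.EtOver X) (gi : Z ⟶ U i) (gj : Z ⟶ U j), gi ≫ f i = gj ≫ f j →
      F.obj.map gi.op (s i) = F.obj.map gj.op (s j)) :
    ∃! t : F.obj.obj (op W), ∀ i, F.obj.map (f i).op t = s i := by
  have h := isSheafFor F (Sieve.ofArrows U f) (ofArrows_mem f hf)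
  rw [Sieve.ofArrows, ← Presieve.isSheafFor_iff_generate, Presieve.isSheafFor_arrows_iff] at h
  exact h s (fun i j Z gi gj hg => hs i j Z gi gj hg)

/-- sections agreeing on a jointly surjective family are equal -/
theorem ext_of_cover {W : AlgSp.EtOver X} {ι : Type v} {U : ι → AlgSp.EtOver X} (f : ∀ i, U i ⟶ W)
    (hf : ∀ x : ↥(sch W), ∃ i, x ∈ Set.range (mor (f i))) {t t' : F.obj.obj (op W)}
    (h : ∀ i, F.obj.map (f i).op t = F.obj.map (f i).op t') : t = t' := by
  refine (existsUnique_glue F f hf (fun i => F.obj.map (f i).op t') ?_).unique h (fun i => rfl)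
  intro i j Z gi gj hg
  rw [← ConcreteCategory.comp_apply, ← ConcreteCategory.comp_apply, ← F.obj.map_comp,
    ← F.obj.map_comp, ← op_comp, ← op_comp, hg]

/-- sections over the empty scheme -/
theorem subsingleton_of_isEmpty (U : AlgSp.EtOver X) [h : IsEmpty ↥(sch U)] :
    Subsingleton (F.obj.obj (op U)) := by
  refine ⟨fun a b => ?_⟩
  exact ext_of_cover F (W := U) (ι := PEmpty.{1}) (U := fun i => i.elim) (fun i => i.elim)
    (fun x => h.elim x) (fun i => i.elim)

/-- gluing along a jointly surjective family of monomorphisms with disjoint ranges: no condition -/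
theorem existsUnique_glue_disjoint {W : AlgSp.EtOver X} {ι : Type v} {U : ι → AlgSp.EtOver X}
    (f : ∀ i, U i ⟶ W) [∀ i, Mono (f i)] (hf : ∀ x : ↥(sch W), ∃ i, x ∈ Set.range (mor (f i)))
    (hd : ∀ i j, i ≠ j → Disjoint (Set.range (mor (f i))) (Set.range (mor (f j))))
    (s : ∀ i, F.obj.obj (op (U i))) :
    ∃! t : F.obj.obj (op W), ∀ i, F.obj.map (f i).op t = s i := by
  refine existsUnique_glue F f hf s ?_
  intro i j Z gi gj hg
  by_cases hij : i = j
  · subst hij
    have : gi = gj := (cancel_mono _).1 hg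
    rw [this]
  · have : IsEmpty ↥(sch Z) := by
      refine ⟨fun z => ?_⟩
      have h1 : mor (gi ≫ f i) z ∈ Set.range (mor (f i)) := ⟨mor gi z, rfl⟩
      have h2 : mor (gj ≫ f j) z ∈ Set.range (mor (f j)) := ⟨mor gj z, rfl⟩
      rw [← hg] at h2
      exact Set.disjoint_left.1 (hd i j hij) h1 h2
    have := subsingleton_of_isEmpty F Z
    exact Subsingleton.elim _ _

end Glue

section Ext

/-- The object `V ⟶ U ⟶ X` for an etale `j : V ⟶ U`, `U` the scheme of the object `E`. -/
noncomputable def extObj (E : AlgSp.EtOver X) {V : Scheme.{u}} (j : V ⟶ sch E) [Etale j] : AlgSp.EtOver X :=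
  AlgSp.EtOver.mk ((AlgSp.yon S).map (Over.homMk j rfl : Over.mk (j ≫ E.obj.left.hom) ⟶ E.obj.left) ≫
    E.obj.hom)
    ((AlgSp.repWith_isMultiplicative (S := S) @Etale).comp_mem _ _
      ((AlgSp.repWith_yon_map_iff _ _).2 (by
        exact ‹Etale j›)) E.property)

/-- The structure morphism `extObj E j ⟶ E`. -/
noncomputable def extHom (E : AlgSp.EtOver X) {V : Scheme.{u}} (j : V ⟶ sch E) [Etale j] :
    extObj E j ⟶ E :=
  AlgSp.EtOver.homMk (Over.homMk j rfl) rfl

theorem sch_extObj (E : AlgSp.EtOver X) {V : Scheme.{u}} (j : V ⟶ sch E) [Etale j] :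
    sch (extObj E j) = V := rfl

theorem mor_extHom (E : AlgSp.EtOver X) {V : Scheme.{u}} (j : V ⟶ sch E) [Etale j] :
    mor (extHom E j) = j := rfl

/-- Morphisms to `extObj E j`. -/
noncomputable def extLift {E E' : AlgSp.EtOver X} {V : Scheme.{u}} (j : V ⟶ sch E) [Etale j]
    (g : E' ⟶ E) (l : sch E' ⟶ V) (h : l ≫ j = mor g) : E' ⟶ extObj E j :=
  AlgSp.EtOver.homMk (Over.homMk l (by
    change l ≫ j ≫ E.obj.left.hom = E'.obj.left.hom
    rw [← Category.assoc, h]
    exact Over.w g.hom.left)) (by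
    have h1 : (Over.homMk l (by
        change l ≫ j ≫ E.obj.left.hom = E'.obj.left.hom
        rw [← Category.assoc, h]
        exact Over.w g.hom.left) : E'.obj.left ⟶ Over.mk (j ≫ E.obj.left.hom)) ≫
        (Over.homMk j rfl : Over.mk (j ≫ E.obj.left.hom) ⟶ E.obj.left) = g.hom.left :=
      Over.OverMorphism.ext h
    change (AlgSp.yon S).map _ ≫ (AlgSp.yon S).map _ ≫ E.obj.hom = E'.obj.hom
    rw [← Category.assoc, ← Functor.map_comp]
    refine Eq.trans ?_ (AlgSp.EtOver.w g)
    exact congrArg (fun k => (AlgSp.yon S).map k ≫ E.obj.hom) h1)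

theorem mor_extLift {E E' : AlgSp.EtOver X} {V : Scheme.{u}} (j : V ⟶ sch E) [Etale j]
    (g : E' ⟶ E) (l : sch E' ⟶ V) (h : l ≫ j = mor g) : mor (extLift j g l h) = l := rfl

theorem extLift_extHom {E E' : AlgSp.EtOver X} {V : Scheme.{u}} (j : V ⟶ sch E) [Etale j]
    (g : E' ⟶ E) (l : sch E' ⟶ V) (h : l ≫ j = mor g) : extLift j g l h ≫ extHom E j = g :=
  mor_ext h

/-- An open subscheme as an object of the site. -/
noncomputable abbrev opn (E : AlgSp.EtOver X) (W : (sch E).Opens) : AlgSp.EtOver X := extObj E W.ι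

/-- The inclusion of an open subscheme. -/
noncomputable abbrev opnι (E : AlgSp.EtOver X) (W : (sch E).Opens) : opn E W ⟶ E := extHom E W.ι

theorem range_opnι (E : AlgSp.EtOver X) (W : (sch E).Opens) :
    Set.range (mor (opnι E W)) = (W : Set ↥(sch E)) := W.range_ι

instance mono_of_mono_mor {E E' : AlgSp.EtOver X} (g : E ⟶ E') [h : Mono (mor g)] : Mono g where
  right_cancellation _ _ hab := mor_ext ((cancel_mono (mor g)).1 (congrArg mor hab))

/-- Refinement of a covering sieve by affine objects. -/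
theorem exists_affine (E : AlgSp.EtOver X) (T : Sieve E) (hT : T ∈ AlgSp.etTop X E) (x : ↥(sch E)) :
    ∃ (E' : AlgSp.EtOver X) (g : E' ⟶ E), T g ∧ IsAffine (sch E') ∧ x ∈ Set.range (mor g) := by
  obtain ⟨E', g, hg, v, hv⟩ := (mem_etTop_iff E T).1 hT x
  obtain ⟨W, hW, hvW, -⟩ := exists_isAffineOpen_mem_and_subset (X := sch E') (x := v) (U := ⊤) trivial
  refine ⟨opn E' W, opnι E' W ≫ g, T.downward_closed hg _, hW, ?_⟩
  obtain ⟨w, hw⟩ : v ∈ Set.range W.ι := by rw [W.range_ι]; exact hvW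
  exact ⟨w, (congrArg (mor g) hw).trans hv⟩

end Ext

section Sigma

variable {E : AlgSp.EtOver X} {ι : Type u} {V : ι → AlgSp.EtOver X} (f : ∀ i, V i ⟶ E)

instance etale_sigmaDesc : Etale (Sigma.desc (fun i => mor (f i))) :=
  IsZariskiLocalAtSource.sigmaDesc (P := @Etale) (fun i => etale_mor (f i))

/-- The disjoint union of a family of objects over `E`. -/
noncomputable def sig : AlgSp.EtOver X := extObj E (Sigma.desc (fun i => mor (f i)))

/-- The structure map of the disjoint union. -/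
noncomputable def sigDesc : sig f ⟶ E := extHom E (Sigma.desc (fun i => mor (f i)))

/-- The inclusions. -/
noncomputable def sigι (i : ι) : V i ⟶ sig f :=
  extLift _ (f i) (Sigma.ι (fun i => sch (V i)) i) (Sigma.ι_desc _ _)

theorem mor_sigι (i : ι) : mor (sigι f i) = Sigma.ι (fun i => sch (V i)) i := rfl

theorem sigι_desc (i : ι) : sigι f i ≫ sigDesc f = f i := extLift_extHom _ _ _ _

instance mono_sigι (i : ι) : Mono (sigι f i) :=
  have : Mono (mor (sigι f i)) := inferInstanceAs (Mono (Sigma.ι (fun i => sch (V i)) i))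
  mono_of_mono_mor _

theorem sig_exists (x : ↥(sch (sig f))) : ∃ i, x ∈ Set.range (mor (sigι f i)) := by
  obtain ⟨⟨i, y⟩, hy⟩ := (sigmaMk (fun i => sch (V i))).surjective x
  exact ⟨i, y, (sigmaMk_mk (fun i => sch (V i)) i y).symm.trans hy⟩

theorem sig_disjoint (i j : ι) (hij : i ≠ j) :
    Disjoint (Set.range (mor (sigι f i))) (Set.range (mor (sigι f j))) := by
  rw [Set.disjoint_left]
  rintro _ ⟨x, rfl⟩ ⟨y, hy⟩
  have h1 : sigmaMk (fun i => sch (V i)) ⟨j, y⟩ = sigmaMk (fun i => sch (V i)) ⟨i, x⟩ := by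
    rw [sigmaMk_mk, sigmaMk_mk]
    exact hy
  have h2 := (sigmaMk (fun i => sch (V i))).injective h1
  exact hij (congrArg Sigma.fst h2).symm

theorem isAffine_sig [Finite ι] (h : ∀ i, IsAffine (sch (V i))) : IsAffine (sch (sig f)) :=
  inferInstanceAs (IsAffine (∐ fun i => sch (V i)))

/-- Sections of an abelian sheaf over the disjoint union. -/
theorem existsUnique_sig (F : AlgSp.AbEt X) (s : ∀ i, F.obj.obj (op (V i))) :
    ∃! t : F.obj.obj (op (sig f)), ∀ i, F.obj.map (sigι f i).op t = s i :=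
  existsUnique_glue_disjoint F (sigι f) (sig_exists f) (sig_disjoint f) s

theorem surjective_sigDesc (h : ∀ x : ↥(sch E), ∃ i, x ∈ Set.range (mor (f i))) :
    Function.Surjective (mor (sigDesc f)) := by
  intro x
  obtain ⟨i, y, hy⟩ := h x
  refine ⟨mor (sigι f i) y, ?_⟩
  exact (congrArg (fun k => mor k y) (sigι_desc f i)).trans hy

end Sigma

/-- A covering sieve of an object with compact underlying space contains a finite family of affine objects
which is jointly surjective. -/
theorem exists_finite_affine (E : AlgSp.EtOver X) [CompactSpace ↥(sch E)] (T : Sieve E)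
    (hT : T ∈ AlgSp.etTop X E) :
    ∃ (n : ℕ) (V : ULift.{u} (Fin n) → AlgSp.EtOver X) (f : ∀ i, V i ⟶ E), (∀ i, T (f i)) ∧
      (∀ i, IsAffine (sch (V i))) ∧ ∀ x : ↥(sch E), ∃ i, x ∈ Set.range (mor (f i)) := by
  choose V g hg ha hx using exists_affine E T hT
  have hopen : ∀ x, IsOpen (Set.range (mor (g x))) := fun x =>
    (mor (g x)).isOpenMap.isOpen_range
  obtain ⟨t, ht⟩ := isCompact_univ.elim_finite_subcover (fun x => Set.range (mor (g x))) hopen
    (fun x _ => Set.mem_iUnion.2 ⟨x, hx x⟩)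
  refine ⟨t.card, fun i => V (t.equivFin.symm i.down), fun i => g (t.equivFin.symm i.down),
    fun i => hg _, fun i => ha _, ?_⟩
  intro x
  obtain ⟨y, hy⟩ := Set.mem_iUnion.1 (ht (Set.mem_univ x))
  obtain ⟨hyt, hxy⟩ := Set.mem_iUnion.1 hy
  refine ⟨ULift.up (t.equivFin ⟨y, hyt⟩), ?_⟩
  have h3 : ((t.equivFin.symm (t.equivFin ⟨y, hyt⟩) : t) : ↥(sch E)) = y :=
    congrArg Subtype.val (Equiv.symm_apply_apply _ _)
  change x ∈ Set.range (mor (g ((t.equivFin.symm (t.equivFin ⟨y, hyt⟩) : t) : ↥(sch E))))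
  rw [h3]
  exact hxy

/-- Sections lift along epimorphisms of abelian sheaves after one affine surjective cover. -/
theorem exists_affine_lift {I Q : AlgSp.AbEt X} (q : I ⟶ Q) [Epi q] (E : AlgSp.EtOver X)
    [CompactSpace ↥(sch E)] (s : Q.obj.obj (op E)) :
    ∃ (V : AlgSp.EtOver X) (f : V ⟶ E), (IsAffine (sch V) ∧ Function.Surjective (mor f)) ∧
      ∃ t : I.obj.obj (op V), q.hom.app (op V) t = Q.obj.map f.op s := by
  have hls : Sheaf.IsLocallySurjective q := by
    rw [Sheaf.isLocallySurjective_iff_epi']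
    infer_instance
  have hT := hls.imageSieve_mem s
  obtain ⟨n, V, f, hf, ha, hcov⟩ := exists_finite_affine E _ hT
  choose t ht using hf
  obtain ⟨tt, htt, -⟩ := existsUnique_sig f I t
  refine ⟨sig f, sigDesc f, ⟨isAffine_sig f ha, surjective_sigDesc f hcov⟩, tt, ?_⟩
  refine ext_of_cover Q (sigι f) (sig_exists f) (fun i => ?_)
  have h1 : Q.obj.map (sigι f i).op (q.hom.app _ tt) = q.hom.app _ (I.obj.map (sigι f i).op tt) :=
    (ConcreteCategory.congr_hom (q.hom.naturality (sigι f i).op) tt).symm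
  rw [h1, htt i]
  refine (ht i).trans ?_
  have h2 : Q.obj.map (f i).op s = Q.obj.map (sigι f i ≫ sigDesc f).op s := by rw [sigι_desc]
  refine h2.trans ?_
  rw [op_comp, Functor.map_comp]
  rfl

end K646.EtSite
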