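import Groth.Agent.AlgSp.K646.AcycX

/-!
# Sections over affine objects of epimorphisms of quasi-coherent modules
-/

set_option autoImplicit false

universe u

open CategoryTheory CategoryTheory.Limits AlgebraicGeometry Opposite

set_option backward.isDefEq.respectTransparency false

namespace K646.AffSec

open K646.EtSite K646.AcycX

variable {S : Scheme.{u}} {X : AlgSp.Sp S}

/-- Sections over affine objects lift along epimorphisms of quasi-coherent modules. -/
theorem exists_sec {M N : AlgSp.ModEt X} [M.IsQuasicoherent] [N.IsQuasicoherent] (φ : M ⟶ N) [Epi φ]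
    {U : AlgSp.EtOver X} (hU : IsAffine (sch U)) (s : N.val.obj (op U)) :
    ∃ t : M.val.obj (op U), φ.val.app (op U) t = s :=
  K644.Exact.surjective_of_epi (T := AlgSp.EtOver.toScheme X) (K644.Chart.isQC M) (K644.Chart.isQC N) φ U hU s

/-- Morphisms from `j_! O_U`, `U` affine, lift along epimorphisms of quasi-coherent modules. -/
theorem exists_lift {M N : AlgSp.ModEt X} (hM : M.IsQuasicoherent) (hN : N.IsQuasicoherent) (φ : M ⟶ N) [Epi φ]
    {G : AlgSp.ModEt X} (hG : AffOU X G) (y : G ⟶ N) : ∃ z : G ⟶ M, z ≫ φ = y := by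
  obtain ⟨U, hU, rfl⟩ := hG
  obtain ⟨t, ht⟩ := exists_sec φ hU (K646.Free.OUequiv.{u + 1} y)
  refine ⟨K646.Free.OUequiv.{u + 1}.symm t, ?_⟩
  apply K646.Free.OUequiv.{u + 1}.injective
  rw [K646.Free.OUequiv_comp, Equiv.apply_symm_apply, ht]

end K646.AffSec
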