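import Groth.Agent.AlgSp.K646.Cartan
import Groth.Agent.AlgSp.K646.WidePb
import Mathlib.CategoryTheory.Sites.Over
import Mathlib.CategoryTheory.Limits.Constructions.Over.Connected

/-!
# Cartan's criterion for a basis of a site, and for its slices
-/

set_option autoImplicit false

universe w' w v u

open CategoryTheory CategoryTheory.Limits CategoryTheory.Abelian Opposite Simplicial

namespace K646.Bas

open Groth.Agent.Etbase.CechCartan K646.Free K646.CechInj Groth.Agent.CohtopB.CechCrit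

section Disj

variable {C : Type u} [Category.{v} C] (J : GrothendieckTopology C)

/-- A covering family of monomorphisms with disjoint images. -/
structure Disj {ι : Type*} {Vi : ι → C} {V : C} (inc : ∀ i, Vi i ⟶ V) : Prop where
  cov : Sieve.ofArrows Vi inc ∈ J V
  mono : ∀ (i : ι) (Z : C) (a b : Z ⟶ Vi i), a ≫ inc i = b ≫ inc i → a = b
  disj : ∀ (i j : ι) (Z : C) (a : Z ⟶ Vi i) (b : Z ⟶ Vi j), a ≫ inc i = b ≫ inc j → i ≠ j →
    (⊥ : Sieve Z) ∈ J Z

variable {J}

theorem isSheafFor (F : Sheaf J AddCommGrpCat.{max v w}) {W : C} (T : Sieve W) (hT : T ∈ J W) :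
    Presieve.IsSheafFor (F.obj ⋙ forget AddCommGrpCat.{max v w}) T.arrows :=
  (isSheaf_iff_isSheaf_of_type _ _).1 (Presheaf.isSheaf_comp_of_isSheaf J F.obj
      (CategoryTheory.forget _) F.property) T hT

theorem subsingleton_of_bot (F : Sheaf J AddCommGrpCat.{max v w}) {W : C} (hT : (⊥ : Sieve W) ∈ J W) :
    Subsingleton (F.obj.obj (op W)) := by
  refine ⟨fun a b => ?_⟩
  exact (isSheafFor F _ hT).isSeparatedFor.ext (fun Y f hf => hf.elim)

/-- unique gluing along a disjoint family -/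
theorem Disj.existsUnique (F : Sheaf J AddCommGrpCat.{max v w}) {ι : Type*} {Vi : ι → C} {V : C}
    {inc : ∀ i, Vi i ⟶ V} (h : Disj J inc) (s : ∀ i, F.obj.obj (op (Vi i))) :
    ∃! t : F.obj.obj (op V), ∀ i, F.obj.map (inc i).op t = s i := by
  have h1 := isSheafFor F _ h.cov
  rw [Sieve.ofArrows, ← Presieve.isSheafFor_iff_generate, Presieve.isSheafFor_arrows_iff] at h1
  refine h1 s (fun i j Z gi gj hg => ?_)
  by_cases hij : i = j
  · subst hij
    have : gi = gj := h.mono i Z gi gj hg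
    rw [this]
  · exact (subsingleton_of_bot F (h.disj i j Z gi gj hg hij)).elim _ _

end Disj

section Basis

variable {C : Type u} [Category.{v} C] (J : GrothendieckTopology C)
  [∀ (V U : C) (f : V ⟶ U) (n : ℕ), HasWidePullback (Arrow.mk f).right
    (fun _ : Fin (n + 1) => (Arrow.mk f).left) fun _ => (Arrow.mk f).hom]

set_option linter.dupNamespace false in
/-- A class of objects and of single coverings which is enough for Cartan's criterion. -/
structure Basis (B : C → Prop) (Cov : ∀ ⦃V U : C⦄, (V ⟶ U) → Prop) : Prop where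
  iso : ∀ {U V : C}, (U ≅ V) → B U → B V
  nerve : ∀ ⦃V U : C⦄ (f : V ⟶ U), Cov f → ∀ n : ℕ, B ((Arrow.mk f).cechNerve _⦋n⦌)
  cov : ∀ ⦃V U : C⦄ (f : V ⟶ U), Cov f → Sieve.generateSingleton f ∈ J U
  refine : ∀ (U : C), B U → ∀ T ∈ J U, ∃ (ι : Type) (Vi : ι → C) (V : C) (inc : ∀ i, Vi i ⟶ V)
    (f : V ⟶ U), Disj J inc ∧ Cov f ∧ ∀ i, T (inc i ≫ f)

variable {J} {B : C → Prop} {Cov : ∀ ⦃V U : C⦄, (V ⟶ U) → Prop}

/-- Lifting sections along locally surjective maps. -/
theorem Basis.lift' (hb : Basis J B Cov) {I Q : Sheaf J AddCommGrpCat.{max v w}} (q : I ⟶ Q)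
    (U : C) (hU : B U) (s : Q.obj.obj (op U)) (hs : Presheaf.imageSieve q.hom s ∈ J U) :
    ∃ (V : C) (f : V ⟶ U), Cov f ∧ ∃ t : I.obj.obj (op V), q.hom.app (op V) t = Q.obj.map f.op s := by
  obtain ⟨ι, Vi, V, inc, f, hd, hf, hT⟩ := hb.refine U hU _ hs
  choose t ht using hT
  obtain ⟨tt, htt, -⟩ := hd.existsUnique I t
  refine ⟨V, f, hf, tt, ?_⟩
  refine (hd.existsUnique Q (fun i => Q.obj.map (inc i).op (Q.obj.map f.op s))).unique (fun i => ?_) (fun i => rfl)
  have h1 : Q.obj.map (inc i).op (q.hom.app _ tt) = q.hom.app _ (I.obj.map (inc i).op tt) :=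
    (ConcreteCategory.congr_hom (q.hom.naturality (inc i).op) tt).symm
  rw [h1, htt i]
  refine (ht i).trans ?_
  rw [op_comp, Functor.map_comp]
  rfl

theorem Basis.lift [HasSheafify J AddCommGrpCat.{max v w}] [J.WEqualsLocallyBijective AddCommGrpCat.{max v w}]
    (hb : Basis J B Cov) ⦃I Q : Sheaf J AddCommGrpCat.{max v w}⦄ (q : I ⟶ Q) (hq : Epi q)
    (U : C) (hU : B U) (s : Q.obj.obj (op U)) :
    ∃ (V : C) (f : V ⟶ U), Cov f ∧ ∃ t : I.obj.obj (op V), q.hom.app (op V) t = Q.obj.map f.op s := by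
  have hls : Sheaf.IsLocallySurjective q := by
    rw [Sheaf.isLocallySurjective_iff_epi']
    infer_instance
  exact hb.lift' q U hU s (hls.imageSieve_mem s)

variable {R : Sheaf J RingCat.{max w v}}
  [HasSheafify J AddCommGrpCat.{max w v}] [J.WEqualsLocallyBijective AddCommGrpCat.{max w v}]
  [EnoughInjectives (SheafOfModules.{max w v} R)]

/-- Cartan's criterion. -/
theorem Basis.subsingleton_ext (hb : Basis J B Cov) [HasExt.{w'} (SheafOfModules.{max w v} R)]
    (F : SheafOfModules.{max w v} R) (hF : CechAcyc Cov F.val.presheaf)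
    (U : C) (hU : B U) (p : ℕ) : Subsingleton (Ext (OU.{w} R U) F (p + 1)) :=
  K646.Cartan.subsingleton_ext B Cov hb.nerve hb.cov (fun _ _ q hq => hb.lift q hq) F hF U hU p

/-- Cartan's criterion. -/
theorem Basis.hom_eq_zero (hb : Basis J B Cov) [HasDerivedCategory.{w'} (SheafOfModules.{max w v} R)]
    (F : SheafOfModules.{max w v} R) (hF : CechAcyc Cov F.val.presheaf)
    (U : C) (hU : B U) (a b : ℤ) (hab : b < a)
    (f : (DerivedCategory.singleFunctor _ a).obj (OU.{w} R U) ⟶
      (DerivedCategory.singleFunctor _ b).obj F) : f = 0 :=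
  K646.Cartan.hom_eq_zero B Cov hb.nerve hb.cov (fun _ _ q hq => hb.lift q hq) F hF U hU a b hab f

/-- Surjectivity on sections over the basis of an epimorphism whose kernel is Čech acyclic. -/
theorem Basis.surjective (hb : Basis J B Cov) [HasExt.{w'} (SheafOfModules.{max w v} R)] {S : ShortComplex (SheafOfModules.{max w v} R)}
    (hS : S.ShortExact) (hF : CechAcyc Cov S.X₁.val.presheaf) (U : C) (hU : B U) :
    Function.Surjective (S.g.val.app (op U)) := by
  intro s
  have h1 := hb.subsingleton_ext S.X₁ hF U hU 0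
  obtain ⟨x, hx⟩ := Ext.covariant_sequence_exact₃ (OU.{w} R U) hS (Ext.mk₀ (OUequiv.{w}.symm s))
    (zero_add 1) (Subsingleton.elim _ _)
  obtain ⟨y, rfl⟩ := (Ext.mk₀_bijective _ _).surjective x
  rw [Ext.mk₀_comp_mk₀] at hx
  have h2 := (Ext.mk₀_bijective _ _).injective hx
  refine ⟨OUequiv y, ?_⟩
  rw [← OUequiv_comp, h2, Equiv.apply_symm_apply]

end Basis

end K646.Bas
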