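import Groth.Agent.AlgSp.K646.Basis
import Mathlib.CategoryTheory.Limits.Constructions.Over.Basic

/-!
# Slices of a basis of a site
-/

set_option autoImplicit false

universe w' w v u

open CategoryTheory CategoryTheory.Limits CategoryTheory.Abelian Opposite Simplicial

namespace K646.Bas

open Groth.Agent.Etbase.CechCartan K646.Free K646.CechInj Groth.Agent.CohtopB.CechCrit

section iso

variable {C : Type u} [Category.{v} C]

theorem dC_map (P : Cᵒᵖ ⥤ AddCommGrpCat.{w}) {E E' : SimplicialObject C} (φ : E ⟶ E') (n : ℕ)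
    (x : P.obj (op (E' _⦋n⦌))) :
    P.map (φ.app (op (SimplexCategory.mk (n + 1)))).op (dC P E' n x) =
      dC P E n (P.map (φ.app (op (SimplexCategory.mk n))).op x) := by
  rw [dC_apply, dC_apply, map_sum]
  refine Finset.sum_congr rfl fun i _ => ?_
  rw [map_zsmul]
  congr 1
  rw [← ConcreteCategory.comp_apply, ← ConcreteCategory.comp_apply, ← Functor.map_comp, ← Functor.map_comp,
    ← op_comp, ← op_comp]
  congr 3
  exact congrArg Quiver.Hom.op (φ.naturality _).symm

theorem exact'_of_iso (P : Cᵒᵖ ⥤ AddCommGrpCat.{w}) {E E' : SimplicialObject C} (e : E ≅ E')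
    (h : Exact' P E) : Exact' P E' := by
  intro n x hx
  obtain ⟨y, hy⟩ := h n (P.map (e.hom.app _).op x) (by rw [← dC_map, hx, map_zero])
  refine ⟨P.map (e.inv.app _).op y, ?_⟩
  rw [← dC_map, hy, ← ConcreteCategory.comp_apply, ← Functor.map_comp, ← op_comp, ← NatTrans.comp_app,
    e.inv_hom_id]
  change P.map (𝟙 _) x = x
  rw [CategoryTheory.Functor.map_id]
  rfl

end iso

section over

variable {C : Type u} [Category.{v} C] [∀ (V U : C) (f : V ⟶ U) (n : ℕ), HasWidePullback (Arrow.mk f).right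
    (fun _ : Fin (n + 1) => (Arrow.mk f).left) fun _ => (Arrow.mk f).hom] {E : C}
  [∀ (V U : Over E) (f : V ⟶ U) (n : ℕ), HasWidePullback (Arrow.mk f).right
    (fun _ : Fin (n + 1) => (Arrow.mk f).left) fun _ => (Arrow.mk f).hom]

section nerve

variable {V U : Over E} (f : V ⟶ U)

/-- An object over `E` mapping to the Čech nerve. -/
noncomputable def toNerve (n : ℕ) : Over.mk (bs f.left n ≫ U.hom) ⟶ (Arrow.mk f).cechNerve _⦋n⦌ :=
  mkE f n (Over.homMk (bs f.left n)) (fun i => Over.homMk (pr f.left n i) (by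
    change pr f.left n i ≫ V.hom = bs f.left n ≫ U.hom
    rw [← Over.w f, pr_comp_assoc])) (fun i => Over.OverMorphism.ext (pr_comp f.left n i))

/-- The iso in degree `n`. -/
noncomputable def nerveIso (n : ℕ) : ((Arrow.mk f).cechNerve _⦋n⦌).left ≅ (Arrow.mk f.left).cechNerve _⦋n⦌ where
  hom := mkE f.left n (bs f n).left (fun i => (pr f n i).left) (fun i => by
    rw [← Over.comp_left, pr_comp])
  inv := (toNerve f n).left
  hom_inv_id := by
    have h : (Over.homMk (mkE f.left n (bs f n).left (fun i => (pr f n i).left) (fun i => by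
        rw [← Over.comp_left, pr_comp])) (by
          change _ ≫ bs f.left n ≫ U.hom = _
          rw [mkE_bs_assoc]
          exact Over.w (bs f n)) : (Arrow.mk f).cechNerve _⦋n⦌ ⟶ Over.mk (bs f.left n ≫ U.hom)) ≫
        toNerve f n = 𝟙 _ := by
      apply E_hom_ext
      intro i
      rw [Category.assoc, toNerve, mkE_pr, Category.id_comp]
      apply Over.OverMorphism.ext
      exact mkE_pr _ _ _ _ _ _
    exact congrArg (fun k => k.left) h
  inv_hom_id := by
    apply E_hom_ext
    intro i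
    rw [Category.assoc, mkE_pr, Category.id_comp]
    have h := mkE_pr f n (Over.homMk (bs f.left n) : Over.mk (bs f.left n ≫ U.hom) ⟶ U)
      (fun i => Over.homMk (pr f.left n i) (by
        change pr f.left n i ≫ V.hom = bs f.left n ≫ U.hom
        rw [← Over.w f, pr_comp_assoc])) (fun i => Over.OverMorphism.ext (pr_comp f.left n i)) i
    exact congrArg (fun k => k.left) h

omit [∀ (V U : C) (f : V ⟶ U) (n : ℕ), HasWidePullback (Arrow.mk f).right
    (fun _ : Fin (n + 1) => (Arrow.mk f).left) fun _ => (Arrow.mk f).hom] in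
theorem map_pr {D : Type*} [Category* D] {V U : D} (f : V ⟶ U) [∀ n : ℕ, HasWidePullback (Arrow.mk f).right
    (fun _ : Fin (n + 1) => (Arrow.mk f).left) fun _ => (Arrow.mk f).hom] {m n : SimplexCategoryᵒᵖ} (g : m ⟶ n)
    (i : Fin (n.unop.len + 1)) :
    (Arrow.mk f).cechNerve.map g ≫ WidePullback.π (fun _ : Fin (n.unop.len + 1) => (Arrow.mk f).hom) i =
      WidePullback.π (fun _ : Fin (m.unop.len + 1) => (Arrow.mk f).hom) (g.unop.toOrderHom i) :=
  WidePullback.lift_π _ _ _ _ _

theorem nerveIso_pr (n : ℕ) (i : Fin (n + 1)) : (nerveIso f n).hom ≫ pr f.left n i = (pr f n i).left :=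
  mkE_pr _ _ _ _ _ _

/-- The comparison isomorphism. -/
noncomputable def nerveNatIso :
    ((SimplicialObject.whiskering _ _).obj (Over.forget E)).obj (Arrow.mk f).cechNerve ≅
      (Arrow.mk f.left).cechNerve :=
  NatIso.ofComponents (fun n => nerveIso f n.unop.len) (fun {m n} g => by
    apply E_hom_ext f.left n.unop.len
    intro i
    rw [Category.assoc, Category.assoc]
    refine Eq.trans (congrArg (fun k => ((Arrow.mk f).cechNerve.map g).left ≫ k)
      (nerveIso_pr f n.unop.len i)) ?_
    refine Eq.trans ?_ (congrArg (fun k => (nerveIso f m.unop.len).hom ≫ k) (map_pr f.left g i)).symm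
    refine Eq.trans ?_ (nerveIso_pr f m.unop.len (g.unop.toOrderHom i)).symm
    exact congrArg (fun k => k.left) (map_pr f g i))

end nerve

variable {J : GrothendieckTopology C} {B : C → Prop} {Cov : ∀ ⦃V U : C⦄, (V ⟶ U) → Prop}

/-- The induced class of coverings. -/
def covOver (E : C) (Cov : ∀ ⦃V U : C⦄, (V ⟶ U) → Prop) ⦃V U : Over E⦄ (f : V ⟶ U) : Prop := Cov f.left

omit [∀ (V U : C) (f : V ⟶ U) (n : ℕ), HasWidePullback (Arrow.mk f).right
    (fun _ : Fin (n + 1) => (Arrow.mk f).left) fun _ => (Arrow.mk f).hom]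
  [∀ (V U : Over E) (f : V ⟶ U) (n : ℕ), HasWidePullback (Arrow.mk f).right
    (fun _ : Fin (n + 1) => (Arrow.mk f).left) fun _ => (Arrow.mk f).hom] in
/-- Disjoint families over a slice. -/
theorem Disj.over {U : Over E} {ι : Type*} {Vi : ι → C} {V : C}
    {inc : ∀ i, Vi i ⟶ V} (h : Disj J inc) (f : V ⟶ U.left) :
    Disj (J.over E) (fun i => (Over.homMk (inc i) (by simp) :
      Over.mk (inc i ≫ f ≫ U.hom) ⟶ Over.mk (f ≫ U.hom))) where
  cov := by
    rw [GrothendieckTopology.mem_over_iff]
    refine J.superset_covering ?_ h.cov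
    rintro Z g ⟨Y, a, b, ⟨i⟩, rfl⟩
    exact ⟨Over.mk (inc i ≫ f ≫ U.hom), Over.homMk (inc i) (by simp), a, Sieve.ofArrows_mk _ _ i, rfl⟩
  mono i Z a b hab := by
    apply Over.OverMorphism.ext
    exact h.mono i _ _ _ (congrArg (fun k => k.left) hab)
  disj i j Z a b hab hij := by
    rw [GrothendieckTopology.mem_over_iff]
    refine J.superset_covering bot_le (h.disj i j _ a.left b.left (congrArg (fun k => k.left) hab) hij)

/-- A basis of the slice. -/
theorem Basis.over (hb : Basis J B Cov) (E : C) [∀ (V U : Over E) (f : V ⟶ U) (n : ℕ),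
    HasWidePullback (Arrow.mk f).right
    (fun _ : Fin (n + 1) => (Arrow.mk f).left) fun _ => (Arrow.mk f).hom] :
    Basis (J.over E) (fun W => B W.left) (covOver E Cov) where
  iso e h := hb.iso ((Over.forget E).mapIso e) h
  nerve V U f hf n := hb.iso (nerveIso f n).symm (hb.nerve f.left hf n)
  cov V U f hf := by
    rw [GrothendieckTopology.mem_over_iff]
    refine J.superset_covering ?_ (hb.cov f.left hf)
    rintro Z g ⟨v, rfl⟩
    exact ⟨V, f, v, ⟨𝟙 _, by simp⟩, rfl⟩
  refine U hU T hT := by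
    rw [GrothendieckTopology.mem_over_iff] at hT
    obtain ⟨ι, Vi, V, inc, f, hd, hf, hT'⟩ := hb.refine U.left hU _ hT
    refine ⟨ι, fun i => Over.mk (inc i ≫ f ≫ U.hom), Over.mk (f ≫ U.hom), fun i => Over.homMk (inc i) (by simp),
      Over.homMk f, hd.over f, hf, fun i => ?_⟩
    have h1 := (Sieve.overEquiv_iff T (inc i ≫ f)).1 (hT' i)
    have h2 := T.downward_closed h1 (Over.homMk (𝟙 _) (by simp) :
      Over.mk (inc i ≫ f ≫ U.hom) ⟶ Over.mk ((inc i ≫ f) ≫ U.hom))
    convert h2 using 1
    apply Over.OverMorphism.ext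
    simp

/-- Čech acyclicity restricts to slices. -/
theorem cechAcyc_over {F : Cᵒᵖ ⥤ AddCommGrpCat.{w}} (hF : CechAcyc Cov F) (E : C)
    [∀ (V U : Over E) (f : V ⟶ U) (n : ℕ),
    HasWidePullback (Arrow.mk f).right
    (fun _ : Fin (n + 1) => (Arrow.mk f).left) fun _ => (Arrow.mk f).hom] :
    CechAcyc (covOver E Cov) ((Over.forget E).op ⋙ F) := by
  intro V U f hf
  exact exact'_of_iso F (nerveNatIso f).symm (hF f.left hf)

end over

end K646.Bas
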