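import Groth.Agent.AlgSp.K646.HMV
import Groth.Agent.S10766

/-!
# Uniform vanishing of the cohomology of quasi-coherent modules on a qcqs algebraic space
-/

set_option autoImplicit false

universe u

open CategoryTheory CategoryTheory.Limits AlgebraicGeometry Opposite AlgSp

set_option backward.isDefEq.respectTransparency false

namespace K646.Bound

open K643.Site K643.CechX K643.ObjCoh K646.EtSite K646.ElemEt K646.HMV

attribute [local instance 3000] hasSheafify_et wEqualsLocallyBijective_et hasSheafCompose_et hasExt_et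

/-- Uniform vanishing over `w : W ⟶ X` in degrees `≥ N`. -/
def Van {S : Scheme.{u}} {X W : Sp S} (Q : AbEt X → Prop) (w : W ⟶ X) (N : ℕ) : Prop :=
  ∀ F : AbEt X, Q F → ∀ n : ℕ, N ≤ n → ∀ a : HW w F n, a = 0

theorem nat_aux (N₁ N₂ N₃ n : ℕ) (h : max N₁ (max N₂ N₃) + 1 ≤ n) :
    ∃ m, n = m + 1 ∧ N₁ ≤ m + 1 ∧ N₂ ≤ m + 1 ∧ N₃ ≤ m := ⟨n - 1, by omega⟩

theorem van_affine {S : Scheme.{u}} {X W : Sp S} {Q : AbEt X → Prop} (hQ : ∀ F, Q F → Acyc (K643.PushAff.AffB X) F)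
    {w : W ⟶ X} (hw : IsEtaleMor w) {T : Over S} (hT : IsAffine T.left) (e : (yon S).obj T ≅ W) : Van Q w 1 := by
  intro F hF n hn a
  obtain ⟨m, rfl⟩ := Nat.exists_eq_add_of_le' hn
  exact eq_zero_of_affine hw hT e (hQ F hF) m a

theorem van_elem {S : Scheme.{u}} {X : Sp S} {Q : AbEt X → Prop} {U V W P : Sp S} {j : U ⟶ W} {f : V ⟶ W} {p : P ⟶ U}
    {q : P ⟶ V} (hV : IsAlgSpace V) (h : IsElemDistSq j f)
    (hP : IsPullback p q j f) {u : U ⟶ X} {v : V ⟶ X} {w : W ⟶ X} {x : P ⟶ X} (hj : j ≫ w = u) (hf : f ≫ w = v)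
    (hp : p ≫ u = x) (hq : q ≫ v = x) {N₁ N₂ N₃ : ℕ} (h₁ : Van Q u N₁) (h₂ : Van Q v N₂) (h₃ : Van Q x N₃) :
    Van Q w (max N₁ (max N₂ N₃) + 1) := by
  intro F hF n hn
  obtain ⟨m, rfl, hm₁, hm₂, hm₃⟩ := nat_aux N₁ N₂ N₃ n hn
  exact eq_zero_of_elem hV h hP hj hf hp hq F m (h₃ F hF m hm₃) (h₁ F hF _ hm₁) (h₂ F hF _ hm₂)

/-- For a class `Q` of abelian sheaves acyclic on the affine objects of the small etale site there is a uniform bound
for the cohomology over every qcqs space etale over `X`. -/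
theorem exists_bound {S : Scheme.{u}} [QuasiSeparatedSpace ↥S] (X : AlgSp.Space S)
    (hqc : AlgSp.IsQuasiCompactSp X.obj) (hqs : AlgSp.IsQuasiSeparatedSp X.obj) (Q : AbEt X.obj → Prop)
    (hQ : ∀ F, Q F → Acyc (K643.PushAff.AffB X.obj) F) (W : EtSpOver X)
    (hWc : AlgSp.IsQuasiCompactSp W.obj.left.obj) (hWs : AlgSp.IsQuasiSeparatedSp W.obj.left.obj) :
    ∃ N : ℕ, Van Q W.obj.hom.hom N := by
  refine Groth.Agent.S10766.result X hqc hqs (fun W => ∃ N : ℕ, Van Q W.obj.hom.hom N) ?_ ?_ W hWc hWs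
  · rintro W T hT ⟨e⟩
    exact ⟨1, van_affine hQ W.property hT e⟩
  · rintro W U V UV j f p q - - - - hel hpb ⟨N₁, h₁⟩ ⟨N₂, h₂⟩ ⟨N₃, h₃⟩
    have hj : j.hom.left.hom ≫ W.obj.hom.hom = U.obj.hom.hom := congrArg (fun k => k.hom) (Over.w j.hom)
    have hf : f.hom.left.hom ≫ W.obj.hom.hom = V.obj.hom.hom := congrArg (fun k => k.hom) (Over.w f.hom)
    have hp : p.hom.left.hom ≫ U.obj.hom.hom = UV.obj.hom.hom := congrArg (fun k => k.hom) (Over.w p.hom)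
    have hq : q.hom.left.hom ≫ V.obj.hom.hom = UV.obj.hom.hom := congrArg (fun k => k.hom) (Over.w q.hom)
    exact ⟨_, van_elem V.obj.left.property hel hpb hj hf hp hq h₁ h₂ h₃⟩

theorem isEtaleMor_id {S : Scheme.{u}} (X : Sp S) : IsEtaleMor (𝟙 X) := fun U φ hφ => by
  rw [Category.comp_id]
  exact hφ

/-- Uniform vanishing of cohomology. -/
theorem exists_bound_HEt {S : Scheme.{u}} [QuasiSeparatedSpace ↥S] (X : AlgSp.Space S)
    (hqc : AlgSp.IsQuasiCompactSp X.obj) (hqs : AlgSp.IsQuasiSeparatedSp X.obj) (Q : AbEt X.obj → Prop)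
    (hQ : ∀ F, Q F → Acyc (K643.PushAff.AffB X.obj) F) :
    ∃ N : ℕ, ∀ F : AbEt X.obj, Q F → ∀ n : ℕ, N ≤ n → Subsingleton (HEt X.obj F n) := by
  obtain ⟨N, hN⟩ := exists_bound X hqc hqs Q hQ ⟨Over.mk (𝟙 X), isEtaleMor_id X.obj⟩ hqc hqs
  exact ⟨N, fun F hF n hn => subsingleton_HEt F n (hN F hF n hn)⟩

end K646.Bound
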