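import Groth.Agent.AlgSp.K646.ZMV
import Groth.Agent.AlgSp.K646.EtSite
import Groth.Agent.AlgSp.K640.ElemDist

/-!
# Elementary distinguished squares and presheaves on the small etale site

For `w : W ⟶ X` the presheaf `hp w` on the small etale site of `X` (sections of `w`); an elementary distinguished
square over `X` gives a Mayer–Vietoris square of presheaves (`sq`).
-/

set_option autoImplicit false

universe u

open CategoryTheory CategoryTheory.Limits AlgebraicGeometry Opposite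
open AlgSp K646.EtSite K640.ElemDist K640.Equalizer

set_option backward.isDefEq.respectTransparency false

namespace K646.ElemEt

variable {S : Scheme.{u}} {X : Sp S}

section

variable {U V W P : Sp S} {j : U ⟶ W} {f : V ⟶ W}

/-- the two maps of an elementary distinguished square are jointly surjective for the etale topology -/
theorem cov_of (hV : IsAlgSpace V) (h : IsElemDistSq j f) {R : Over S} (g : (yon S).obj R ⟶ W) (t : R.left) :
    (∃ (R₁ : Over S) (c : R₁ ⟶ R) (z : (yon S).obj R₁ ⟶ U), Etale c.left ∧ t ∈ Set.range c.left ∧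
      z ≫ j = (yon S).map c ≫ g) ∨
    (∃ (R₁ : Over S) (c : R₁ ⟶ R) (z : (yon S).obj R₁ ⟶ V), Etale c.left ∧ t ∈ Set.range c.left ∧
      z ≫ f = (yon S).map c ≫ g) := by
  obtain ⟨hj, hf, T, P', i, p₁, p₂, ⟨hi, hrange, hred⟩, sq, hiso⟩ := h
  obtain ⟨V₀, q, hq, hqs⟩ := hV.atlas
  have hqf := hf q hq
  obtain ⟨R₁, c₁, z₁, sq₁⟩ := hj.1 g
  obtain ⟨R₂, c₂, z₂, sq₂⟩ := hqf.1 g
  have h₁ : IsOpenImmersion c₁.left := hj.2 _ z₁ c₁ sq₁
  have h₂ : Etale c₂.left := hqf.2 _ z₂ c₂ sq₂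
  by_cases ht : Points.ofPt g t ∈ Set.range (Points.map j)
  · obtain ⟨x, hx⟩ := ht
    obtain ⟨y, -, hy⟩ := K610.Base.exists_of_isPullback_yon sq₁ x t hx
    exact Or.inl ⟨R₁, c₁, z₁, inferInstance, ⟨y, hy⟩, sq₁.w⟩
  · have ht' : Points.ofPt g t ∈ Set.range (Points.map i) := by rw [hrange]; exact ht
    obtain ⟨x, hx⟩ := ht'
    have h3 : Points.map f (Points.map p₂ (Points.map (inv p₁) x)) = Points.ofPt g t := by
      rw [← Points.map_comp, ← Points.map_comp, ← sq.w, IsIso.inv_hom_id_assoc, hx]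
    obtain ⟨y, hy⟩ := K610.Base.surjective_points_of_repWith hqs (Points.map p₂ (Points.map (inv p₁) x))
    obtain ⟨w, -, hw⟩ := K610.Base.exists_of_isPullback_yon sq₂ y t (by rw [Points.map_comp, hy, h3])
    exact Or.inr ⟨R₂, c₂, z₂ ≫ q, inferInstance, ⟨w, hw⟩, by rw [Category.assoc, sq₂.w]⟩

/-- two maps to `V` with the same composition to `W` either agree or factor through `U`, etale locally -/
theorem agree_of (hV : IsAlgSpace V) (h : IsElemDistSq j f) {R : Over S} (u v : (yon S).obj R ⟶ V)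
    (huv : u ≫ f = v ≫ f) (t : R.left) :
    (∃ (R₁ : Over S) (c : R₁ ⟶ R) (z : (yon S).obj R₁ ⟶ U), Etale c.left ∧ t ∈ Set.range c.left ∧
      z ≫ j = (yon S).map c ≫ u ≫ f) ∨
    (∃ (R₁ : Over S) (c : R₁ ⟶ R), Etale c.left ∧ t ∈ Set.range c.left ∧
      (yon S).map c ≫ u = (yon S).map c ≫ v) := by
  obtain ⟨hj, hf, T, P', i, p₁, p₂, ⟨hi, hrange, hred⟩, sq, hiso⟩ := h
  obtain ⟨R₁, c₁, z₁, sq₁⟩ := hj.1 (u ≫ f)
  have h₁ : IsOpenImmersion c₁.left := hj.2 _ z₁ c₁ sq₁
  obtain ⟨E, e, -, -, he⟩ := exists_isEq hV.diag u v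
  have h₂ : Etale e.left := etale_of_isEq hV hf huv he
  by_cases ht : Points.ofPt (u ≫ f) t ∈ Set.range (Points.map j)
  · obtain ⟨x, hx⟩ := ht
    obtain ⟨y, -, hy⟩ := K610.Base.exists_of_isPullback_yon sq₁ x t hx
    exact Or.inl ⟨R₁, c₁, z₁, inferInstance, ⟨y, hy⟩, sq₁.w⟩
  · have ht' : Points.ofPt (u ≫ f) t ∈ Set.range (Points.map i) := by rw [hrange]; exact ht
    obtain ⟨τ, hτ⟩ := factor_of_mem_range hi t (u ≫ f) ht'
    have h3 : (yon S).map (resMap t) ≫ u = (yon S).map (resMap t) ≫ v := by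
      have hu : τ ≫ i = ((yon S).map (resMap t) ≫ u) ≫ f := by rw [Category.assoc, hτ]
      have hv : τ ≫ i = ((yon S).map (resMap t) ≫ v) ≫ f := by rw [Category.assoc, hτ, huv]
      have h4 : sq.lift _ _ hu = sq.lift _ _ hv := by
        rw [← cancel_mono p₁, sq.lift_fst, sq.lift_fst]
      rw [← sq.lift_snd _ _ hu, h4, sq.lift_snd]
    obtain ⟨l, hl⟩ := he.lift _ _ h3
    refine Or.inr ⟨E, e, inferInstance, ⟨l.left (IsLocalRing.closedPoint _), ?_⟩, he.w⟩
    have : (l ≫ e).left (IsLocalRing.closedPoint _) = t := by rw [hl, resMap_apply]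
    exact this

theorem mono_of_open (hj : RepWith @IsOpenImmersion j) {R : Over S} (u v : (yon S).obj R ⟶ U)
    (huv : u ≫ j = v ≫ j) : u = v := by
  obtain ⟨R', d, fst', sq'⟩ := hj.1 (u ≫ j)
  have hd : IsOpenImmersion d.left := hj.2 _ _ _ sq'
  obtain ⟨a, ha⟩ := (yon S).map_surjective (sq'.lift u (𝟙 _) (by rw [Category.id_comp]))
  obtain ⟨b, hb⟩ := (yon S).map_surjective (sq'.lift v (𝟙 _) (by rw [Category.id_comp, huv]))
  have hmono : Mono d := by
    refine ⟨fun x y hxy => Over.OverMorphism.ext ?_⟩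
    rw [← cancel_mono d.left]
    exact congrArg (fun z => z.left) hxy
  have hab : a = b := by
    rw [← cancel_mono d]
    apply (yon S).map_injective
    rw [Functor.map_comp, Functor.map_comp, ha, hb, sq'.lift_snd, sq'.lift_snd]
  rw [← sq'.lift_fst u (𝟙 _) (by rw [Category.id_comp]), ← ha, hab, hb, sq'.lift_fst]

end

/-- The presheaf of sections of `w : W ⟶ X` on the small etale site of `X`. -/
def hp {W : Sp S} (w : W ⟶ X) : (EtOver X)ᵒᵖ ⥤ Type (u + 1) where
  obj T := {s : (yon S).obj T.unop.obj.left ⟶ W // s ≫ w = T.unop.obj.hom}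
  map {T T'} g := ↾(fun s => ⟨(yon S).map g.unop.hom.left ≫ s.1, by
    rw [Category.assoc, s.2]
    exact EtOver.w g.unop⟩)
  map_id T := by
    refine ConcreteCategory.hom_ext _ _ (fun s => Subtype.ext ?_)
    change (yon S).map (𝟙 _) ≫ s.1 = s.1
    rw [CategoryTheory.Functor.map_id, Category.id_comp]
  map_comp {T T' T''} g g' := by
    refine ConcreteCategory.hom_ext _ _ (fun s => Subtype.ext ?_)
    change (yon S).map (g'.unop.hom.left ≫ g.unop.hom.left) ≫ s.1 = (yon S).map g'.unop.hom.left ≫ (yon S).map g.unop.hom.left ≫ s.1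
    rw [Functor.map_comp, Category.assoc]

/-- Functoriality of `hp`. -/
def hm {W W' : Sp S} {w : W ⟶ X} {w' : W' ⟶ X} (φ : W ⟶ W') (hφ : φ ≫ w' = w) : hp w ⟶ hp w' where
  app T := ↾(fun s => ⟨s.1 ≫ φ, by rw [Category.assoc, hφ, s.2]⟩)
  naturality T T' g := by
    refine ConcreteCategory.hom_ext _ _ (fun s => Subtype.ext ?_)
    change ((yon S).map g.unop.hom.left ≫ s.1) ≫ φ = (yon S).map g.unop.hom.left ≫ s.1 ≫ φ
    rw [Category.assoc]

/-- An etale scheme over an object of the site. -/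
theorem exists_ext (T : EtOver X) {R : Over S} (c : R ⟶ T.obj.left) (hc : Etale c.left) (t : ↥(sch T))
    (ht : t ∈ Set.range c.left) :
    ∃ (T' : EtOver X) (g : T' ⟶ T) (e : T'.obj.left ≅ R), e.hom ≫ c = g.hom.left ∧ t ∈ Set.range (mor g) := by
  refine ⟨extObj T c.left, extHom T c.left, Over.isoMk (Iso.refl _) ?_, ?_, ht⟩
  · change 𝟙 _ ≫ R.hom = c.left ≫ T.obj.left.hom
    rw [Category.id_comp, Over.w c]
  · apply Over.OverMorphism.ext
    change 𝟙 _ ≫ c.left = c.left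
    rw [Category.id_comp]

theorem sq {U V W P : Sp S} {j : U ⟶ W} {f : V ⟶ W} {p : P ⟶ U} {q : P ⟶ V} (hV : IsAlgSpace V) (h : IsElemDistSq j f)
    (hP : IsPullback p q j f) (u : U ⟶ X) (v : V ⟶ X) (w : W ⟶ X) (x : P ⟶ X) (hj : j ≫ w = u) (hf : f ≫ w = v)
    (hp : p ≫ u = x) (hq : q ≫ v = x) : K646.ZMV.Sq (etTop X) (hm p hp) (hm q hq) (hm j hj) (hm f hf) where
  w T s := Subtype.ext (by
    change (s.1 ≫ p) ≫ j = (s.1 ≫ q) ≫ f
    rw [Category.assoc, Category.assoc, hP.w])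
  inj T s s' hs := Subtype.ext (mono_of_open h.1 _ _ (congrArg Subtype.val hs))
  inj' T s s' hs := by
    have h1 : s.1 ≫ q = s'.1 ≫ q := congrArg Subtype.val hs
    refine Subtype.ext (hP.hom_ext (mono_of_open h.1 _ _ ?_) h1)
    rw [Category.assoc, Category.assoc, hP.w, ← Category.assoc, h1, Category.assoc]
  pb T s s' hs := by
    have h1 : s.1 ≫ j = s'.1 ≫ f := congrArg Subtype.val hs
    refine ⟨⟨hP.lift _ _ h1, ?_⟩, Subtype.ext (hP.lift_fst _ _ _), Subtype.ext (hP.lift_snd _ _ _)⟩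
    rw [← hp, hP.lift_fst_assoc, s.2]
  cov T s := by
    refine ⟨⟨fun T' g => (∃ u', (hm j hj).app _ u' = (K646.ElemEt.hp w).map g.op s) ∨
      (∃ v', (hm f hf).app _ v' = (K646.ElemEt.hp w).map g.op s), fun {T' T''} g hg k => ?_⟩, ?_, fun T' g hg => hg⟩
    · rcases hg with ⟨a, ha⟩ | ⟨a, ha⟩
      · refine Or.inl ⟨(K646.ElemEt.hp u).map k.op a, ?_⟩
        rw [K646.ZMV.nat, ha, K646.ZMV.map_map, ← op_comp]
      · refine Or.inr ⟨(K646.ElemEt.hp v).map k.op a, ?_⟩
        rw [K646.ZMV.nat, ha, K646.ZMV.map_map, ← op_comp]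
    · rw [mem_etTop_iff]
      intro t
      rcases cov_of hV h s.1 t with ⟨R₁, c, z, hc, ht, hz⟩ | ⟨R₁, c, z, hc, ht, hz⟩
      · obtain ⟨T', g, e, he, ht'⟩ := exists_ext T c hc t ht
        have h1 : ((yon S).map e.hom ≫ z) ≫ j = (yon S).map g.hom.left ≫ s.1 := by
          rw [Category.assoc, hz, ← Category.assoc, ← Functor.map_comp, he]
        refine ⟨T', g, Or.inl ⟨⟨(yon S).map e.hom ≫ z, ?_⟩, Subtype.ext h1⟩, ht'⟩
        rw [← hj, ← Category.assoc, h1, Category.assoc, s.2]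
        exact EtOver.w g
      · obtain ⟨T', g, e, he, ht'⟩ := exists_ext T c hc t ht
        have h1 : ((yon S).map e.hom ≫ z) ≫ f = (yon S).map g.hom.left ≫ s.1 := by
          rw [Category.assoc, hz, ← Category.assoc, ← Functor.map_comp, he]
        refine ⟨T', g, Or.inr ⟨⟨(yon S).map e.hom ≫ z, ?_⟩, Subtype.ext h1⟩, ht'⟩
        rw [← hf, ← Category.assoc, h1, Category.assoc, s.2]
        exact EtOver.w g
  agree T s s' hs := by
    have hs' : s.1 ≫ f = s'.1 ≫ f := congrArg Subtype.val hs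
    refine ⟨⟨fun T' g => (K646.ElemEt.hp v).map g.op s = (K646.ElemEt.hp v).map g.op s' ∨
      (∃ u', (hm j hj).app _ u' = (hm f hf).app _ ((K646.ElemEt.hp v).map g.op s)), fun {T' T''} g hg k => ?_⟩, ?_,
      fun T' g hg => hg⟩
    · rcases hg with ha | ⟨a, ha⟩
      · refine Or.inl ?_
        rw [op_comp, ← K646.ZMV.map_map, ha, K646.ZMV.map_map]
      · refine Or.inr ⟨(K646.ElemEt.hp u).map k.op a, ?_⟩
        rw [K646.ZMV.nat, ha, op_comp, ← K646.ZMV.map_map, ← K646.ZMV.nat]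
    · rw [mem_etTop_iff]
      intro t
      rcases agree_of hV h s.1 s'.1 hs' t with ⟨R₁, c, z, hc, ht, hz⟩ | ⟨R₁, c, hc, ht, hz⟩
      · obtain ⟨T', g, e, he, ht'⟩ := exists_ext T c hc t ht
        have h1 : ((yon S).map e.hom ≫ z) ≫ j = ((yon S).map g.hom.left ≫ s.1) ≫ f := by
          rw [Category.assoc, hz, ← Category.assoc, ← Functor.map_comp, he, Category.assoc]
        refine ⟨T', g, Or.inr ⟨⟨(yon S).map e.hom ≫ z, ?_⟩, Subtype.ext h1⟩, ht'⟩
        rw [← hj, ← Category.assoc, h1, Category.assoc, Category.assoc, hf, s.2]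
        exact EtOver.w g
      · obtain ⟨T', g, e, he, ht'⟩ := exists_ext T c hc t ht
        refine ⟨T', g, Or.inl (Subtype.ext ?_), ht'⟩
        change (yon S).map g.hom.left ≫ s.1 = (yon S).map g.hom.left ≫ s'.1
        rw [← he, Functor.map_comp, Category.assoc, Category.assoc, hz]

end K646.ElemEt
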