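import Groth.Agent.AlgSp.K646.BasisOver
import Groth.Agent.AlgSp.K646.EtSite
import Groth.Agent.AlgSp.K646.Inst

/-!
# The basis of affine objects of the small etale site of a sheaf over `S`, and Cartan's criterion
-/

set_option autoImplicit false

universe w' w v u

open CategoryTheory CategoryTheory.Limits AlgebraicGeometry CategoryTheory.Abelian Opposite Simplicial

set_option backward.isDefEq.respectTransparency false

namespace K646.EtAcyc

open Groth.Agent.Etbase.CechCartan K646.Free K646.CechInj Groth.Agent.CohtopB.CechCrit K646.Bas K646.EtSite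

section nerve

variable {C : Type u} [Category.{v} C] {V U : C} (f : V ⟶ U) [∀ n : ℕ, HasWidePullback (Arrow.mk f).right
    (fun _ : Fin (n + 1) => (Arrow.mk f).left) fun _ => (Arrow.mk f).hom]

/-- `E_0 ≅ V`. -/
noncomputable def isoZero : (Arrow.mk f).cechNerve _⦋0⦌ ≅ V where
  hom := pr f 0 0
  inv := mkE f 0 f (fun _ => 𝟙 _) (by simp)
  hom_inv_id := by
    apply E_hom_ext
    intro i
    fin_cases i
    simp
  inv_hom_id := by simp

/-- `E_{n+1} = V ×_U E_n`. -/
theorem isPullback_succ (n : ℕ) : IsPullback (pr f (n + 1) 0)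
    ((Arrow.mk f).cechNerve.δ (0 : Fin (n + 2))) f (bs f n) := by
  refine ⟨⟨by simp [pr_comp]⟩, ⟨PullbackCone.IsLimit.mk _ ?_ ?_ ?_ ?_⟩⟩
  · intro s
    exact mkE f (n + 1) (s.fst ≫ f) (Fin.cases s.fst (fun i => s.snd ≫ pr f n i)) (by
      intro i
      induction i using Fin.cases with
      | zero => rfl
      | succ i => simpa [pr_comp] using s.condition.symm)
  · intro s
    simp
  · intro s
    apply E_hom_ext
    intro i
    simp
  · intro s m h1 h2
    apply E_hom_ext
    intro i
    induction i using Fin.cases with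
    | zero => simpa using h1
    | succ i =>
      rw [mkE_pr, Fin.cases_succ, ← h2]
      simp

end nerve

variable {S : Scheme.{u}} (X : AlgSp.Sp S)

/-- Affine objects. -/
def AffB (U : AlgSp.EtOver X) : Prop := IsAffine (sch U)

/-- Surjective morphisms of affine objects. -/
def AffCov ⦃V U : AlgSp.EtOver X⦄ (f : V ⟶ U) : Prop :=
  IsAffine (sch V) ∧ IsAffine (sch U) ∧ Function.Surjective (mor f)

variable {X}

theorem isAffine_of_isPullback {P V U W : AlgSp.EtOver X} {a : P ⟶ V} {b : P ⟶ W} {f : V ⟶ U} {g : W ⟶ U}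
    (h : IsPullback a b f g) (hV : IsAffine (sch V)) (hU : IsAffine (sch U)) (hW : IsAffine (sch W)) :
    IsAffine (sch P) := by
  have h1 : IsPullback (mor a) (mor b) (mor f) (mor g) := h.map (AlgSp.EtOver.toScheme X)
  exact IsAffine.of_isIso h1.isoPullback.hom

theorem isAffine_of_iso {U V : AlgSp.EtOver X} (e : U ≅ V) (h : IsAffine (sch U)) : IsAffine (sch V) := by
  have h1 : sch U ≅ sch V := (AlgSp.EtOver.toScheme X).mapIso e
  exact IsAffine.of_isIso h1.inv

theorem isAffine_cechNerve {V U : AlgSp.EtOver X} (f : V ⟶ U) (hV : IsAffine (sch V)) (hU : IsAffine (sch U))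
    (n : ℕ) : IsAffine (sch ((Arrow.mk f).cechNerve _⦋n⦌)) := by
  induction n with
  | zero => exact isAffine_of_iso (isoZero f).symm hV
  | succ n ih => exact isAffine_of_isPullback (isPullback_succ f n) hV hU ih

theorem bot_mem_of_isEmpty (U : AlgSp.EtOver X) [h : IsEmpty ↥(sch U)] : (⊥ : Sieve U) ∈ AlgSp.etTop X U := by
  rw [mem_etTop_iff]
  exact fun x => h.elim x

theorem disj_sig {E : AlgSp.EtOver X} {n : ℕ} {V : ULift.{u} (Fin n) → AlgSp.EtOver X} (f : ∀ i, V i ⟶ E) :
    Disj (AlgSp.etTop X) (fun i : Fin n => sigι f (ULift.up i)) where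
  cov := ofArrows_mem _ (fun x => by
    obtain ⟨i, hi⟩ := sig_exists f x
    exact ⟨i.down, hi⟩)
  mono i Z a b hab := (cancel_mono _).1 hab
  disj i j Z a b hab hij := by
    have : IsEmpty ↥(sch Z) := by
      refine ⟨fun z => ?_⟩
      have h1 : mor (a ≫ sigι f (ULift.up i)) z ∈ Set.range (mor (sigι f (ULift.up i))) := ⟨mor a z, rfl⟩
      have h2 : mor (b ≫ sigι f (ULift.up j)) z ∈ Set.range (mor (sigι f (ULift.up j))) := ⟨mor b z, rfl⟩
      rw [← hab] at h2
      exact Set.disjoint_left.1 (sig_disjoint f (ULift.up i) (ULift.up j) (by simpa using hij)) h1 h2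
    exact bot_mem_of_isEmpty Z

variable (X) in
/-- The basis of affine objects of the small etale site. -/
theorem affBasis : Basis (AlgSp.etTop X) (AffB X) (AffCov X) where
  iso e h := isAffine_of_iso e h
  nerve V U f hf n := isAffine_cechNerve f hf.1 hf.2.1 n
  cov V U f hf := generateSingleton_mem f hf.2.2
  refine U hU T hT := by
    have : IsAffine (sch U) := hU
    obtain ⟨n, V, f, hf, ha, hcov⟩ := exists_finite_affine U T hT
    refine ⟨Fin n, fun i => V (ULift.up i), sig f, fun i => sigι f (ULift.up i), sigDesc f, disj_sig f,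
      ⟨isAffine_sig f ha, hU, surjective_sigDesc f hcov⟩, fun i => ?_⟩
    rw [sigι_desc]
    exact hf _

instance hasWidePullbackOver (E : AlgSp.EtOver X) {V U : Over E} (f : V ⟶ U) (n : ℕ) :
    HasWidePullback (Arrow.mk f).right
    (fun _ : Fin (n + 1) => (Arrow.mk f).left) fun _ => (Arrow.mk f).hom :=
  have := K646.WidePb.hasFiniteWidePullbacks (C := Over E)
  inferInstance

/-- The basis of affine objects of a slice. -/
theorem affBasisOver (E : AlgSp.EtOver X) : Basis ((AlgSp.etTop X).over E) (fun W => AffB X W.left)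
    (covOver E (AffCov X)) :=
  (affBasis X).over E

attribute [local instance] HasDerivedCategory.standard

/-- Modules whose Čech complexes for affine coverings are exact have no higher cohomology on affine objects. -/
theorem hom_eq_zero (M : AlgSp.ModEt X) (hM : CechAcyc (AffCov X) M.val.presheaf) (U : AlgSp.EtOver X)
    (hU : IsAffine (sch U)) (a b : ℤ) (hab : b < a)
    (f : (DerivedCategory.singleFunctor _ a).obj (K646.Inst.OU U) ⟶
      (DerivedCategory.singleFunctor _ b).obj M) : f = 0 := by
  have := K646.Inst.enoughInjectives X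
  exact (affBasis X).hom_eq_zero M hM U hU a b hab f

/-- The same over a slice. -/
theorem hom_eq_zero_over (E : AlgSp.EtOver X) (M : AlgSp.ModEtOn E)
    (hM : CechAcyc (covOver E (AffCov X)) M.val.presheaf) (U : Over E)
    (hU : IsAffine (sch U.left)) (a b : ℤ) (hab : b < a)
    (f : (DerivedCategory.singleFunctor _ a).obj (K646.Free.OU.{u + 1} (AlgSp.OEtOn E) U) ⟶
      (DerivedCategory.singleFunctor _ b).obj M) : f = 0 := by
  have := K646.Inst.enoughInjectivesOn E
  exact (affBasisOver E).hom_eq_zero M hM U hU a b hab f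

/-- The same over a slice, for the restriction of a module. -/
theorem hom_eq_zero_res (E : AlgSp.EtOver X) (M : AlgSp.ModEt X)
    (hM : CechAcyc (AffCov X) M.val.presheaf) (U : Over E)
    (hU : IsAffine (sch U.left)) (a b : ℤ) (hab : b < a)
    (f : (DerivedCategory.singleFunctor _ a).obj (K646.Free.OU.{u + 1} (AlgSp.OEtOn E) U) ⟶
      (DerivedCategory.singleFunctor _ b).obj ((AlgSp.resModEt E).obj M)) : f = 0 :=
  hom_eq_zero_over E ((AlgSp.resModEt E).obj M) (cechAcyc_over hM E) U hU a b hab f

/-- Surjectivity on sections over affine objects. -/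
theorem surjective {T : ShortComplex (AlgSp.ModEt X)} (hT : T.ShortExact)
    (hF : CechAcyc (AffCov X) T.X₁.val.presheaf) (U : AlgSp.EtOver X) (hU : IsAffine (sch U)) :
    Function.Surjective (T.g.val.app (op U)) := by
  have := K646.Inst.enoughInjectives X
  have : HasExt.{u + 2} (AlgSp.ModEt X) := hasExt_of_hasDerivedCategory _
  exact Bas.Basis.surjective.{u + 2, u + 1, u, u + 1} (affBasis X) hT hF U hU

end K646.EtAcyc
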