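import Groth.Agent.AlgSp.K646.ElemEt
import Groth.Agent.AlgSp.K643.Term

/-!
# Cohomology of spaces over `X` with coefficients in sheaves on the small etale site of `X`: Mayer–Vietoris
-/

set_option autoImplicit false

universe u

open CategoryTheory CategoryTheory.Limits AlgebraicGeometry Opposite AlgSp
open CategoryTheory.Abelian (Ext)
open CategoryTheory.Abelian.Ext
open Groth.Agent.Etbase.FreeSheaf

set_option backward.isDefEq.respectTransparency false

namespace K646.HMV

open K643.Site K643.CechX K643.ObjCoh K646.EtSite K646.ElemEt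

attribute [local instance 3000] hasSheafify_et wEqualsLocallyBijective_et hasSheafCompose_et hasExt_et

variable {S : Scheme.{u}} {X : Sp S}

/-- `H^n(W, F)` for a space `W` over `X`. -/
abbrev HW {W : Sp S} (w : W ⟶ X) (F : AbEt X) (n : ℕ) : Type (u + 1) := Ext.{u + 1} (Z (etTop X) (hp w)) F n

section mv

variable {U V W P : Sp S} {j : U ⟶ W} {f : V ⟶ W} {p : P ⟶ U} {q : P ⟶ V} (hV : IsAlgSpace V) (h : IsElemDistSq j f)
    (hP : IsPullback p q j f) {u : U ⟶ X} {v : V ⟶ X} {w : W ⟶ X} {x : P ⟶ X} (hj : j ≫ w = u) (hf : f ≫ w = v)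
    (hp : p ≫ u = x) (hq : q ≫ v = x)

include hV h hP hj hf hp hq

theorem eq_zero_of_elem (F : AbEt X) (n : ℕ) (h₁ : ∀ a : HW x F n, a = 0) (h₂ : ∀ a : HW u F (n + 1), a = 0)
    (h₃ : ∀ a : HW v F (n + 1), a = 0) (a : HW w F (n + 1)) : a = 0 := by
  have hs := K646.ZMV.shortExact (K646.ElemEt.sq hV h hP u v w x hj hf hp hq)
  obtain ⟨b, hb⟩ := contravariant_sequence_exact₃ hs F a (by
    have key : ∀ b : Ext.{u + 1} (Z (etTop X) (K646.ElemEt.hp u) ⊞ Z (etTop X) (K646.ElemEt.hp v)) F (n + 1), b = 0 := by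
      intro b
      apply biprod_ext
      · rw [h₂ ((mk₀ biprod.inl).comp b (zero_add _)), Ext.comp_zero]
      · rw [h₃ ((mk₀ biprod.inr).comp b (zero_add _)), Ext.comp_zero]
    exact key _) (Nat.add_comm 1 n)
  rw [← hb, h₁ b, Ext.comp_zero]

end mv

/-- The presheaf of a scheme etale over `X`. -/
noncomputable def hpYo (E : EtOver X) : uliftYoneda.{u + 1}.obj E ≅ hp E.obj.hom :=
  NatIso.ofComponents (fun T => Equiv.toIso
    { toFun := fun x => ⟨(yon S).map x.down.hom.left, EtOver.w x.down⟩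
      invFun := fun s => ⟨EtOver.homMk ((yon S).preimage s.1) (by rw [Functor.map_preimage]; exact s.2)⟩
      left_inv := fun x => by
        apply ULift.ext
        apply EtOver.hom_ext
        exact (yon S).preimage_map _
      right_inv := fun s => Subtype.ext ((yon S).map_preimage _) })
    (fun {T T'} g => by
      refine ConcreteCategory.hom_ext _ _ (fun x => Subtype.ext ?_)
      exact (yon S).map_comp _ _)

/-- Isomorphic spaces. -/
noncomputable def hpIso {W W' : Sp S} (e : W ≅ W') {w : W ⟶ X} {w' : W' ⟶ X} (h : e.hom ≫ w' = w) : hp w ≅ hp w' where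
  hom := hm e.hom h
  inv := hm e.inv (by rw [← h, e.inv_hom_id_assoc])
  hom_inv_id := by
    ext T : 2
    refine ConcreteCategory.hom_ext _ _ (fun s => Subtype.ext ?_)
    change (s.1 ≫ e.hom) ≫ e.inv = s.1
    rw [Category.assoc, e.hom_inv_id, Category.comp_id]
  inv_hom_id := by
    ext T : 2
    refine ConcreteCategory.hom_ext _ _ (fun s => Subtype.ext ?_)
    change (s.1 ≫ e.inv) ≫ e.hom = s.1
    rw [Category.assoc, e.inv_hom_id, Category.comp_id]

/-- `X` itself. -/
noncomputable def hpId : hp (𝟙 X) ≅ tp X :=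
  NatIso.ofComponents (fun T => Equiv.toIso
    { toFun := fun _ => PUnit.unit
      invFun := fun _ => ⟨T.unop.obj.hom, Category.comp_id _⟩
      left_inv := fun s => Subtype.ext (s.2.symm.trans (Category.comp_id _))
      right_inv := fun _ => rfl }) (fun g => rfl)

theorem eq_zero_of_iso {A B : AbEt X} (e : A ≅ B) (F : AbEt X) (n : ℕ) (h : ∀ a : Ext.{u + 1} A F n, a = 0)
    (b : Ext.{u + 1} B F n) : b = 0 := by
  have h1 := h ((Ext.mk₀ e.hom).comp b (zero_add n))
  have h2 := congrArg (fun z => (Ext.mk₀ e.inv).comp z (zero_add n)) h1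
  simp only [Ext.comp_zero] at h2
  rw [Ext.mk₀_comp_mk₀_assoc, Iso.inv_hom_id, Ext.mk₀_id_comp] at h2
  exact h2

theorem eq_zero_of_yon {W : Sp S} (w : W ⟶ X) (E : EtOver X) (e : (yon S).obj E.obj.left ≅ W)
    (hw : e.hom ≫ w = E.obj.hom) (F : AbEt X) (n : ℕ) (h : ∀ a : HE E F n, a = 0) (b : HW w F n) : b = 0 :=
  eq_zero_of_iso (ZIso (hpYo E ≪≫ hpIso e hw)) F n h b

theorem subsingleton_HEt (F : AbEt X) (n : ℕ) (h : ∀ a : HW (𝟙 X) F n, a = 0) : Subsingleton (HEt X F n) := by
  refine ⟨fun a b => ?_⟩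
  have key : ∀ a : HEt X F n, a = 0 := eq_zero_of_iso (ZIso hpId ≪≫ ZtpIso X) F n h
  rw [key a, key b]

/-- A class of objects over which cohomology is bounded. -/
theorem eq_zero_of_affine {W : Sp S} {w : W ⟶ X} (hw : IsEtaleMor w) {T : Over S} (hT : IsAffine T.left)
    (e : (yon S).obj T ≅ W) {F : AbEt X} (hF : Acyc (K643.PushAff.AffB X) F) (n : ℕ) (b : HW w F (n + 1)) : b = 0 := by
  have he : RepWith @Etale e.hom := (RepWith @Etale).of_isIso _
  let E : EtOver X := EtOver.mk (e.hom ≫ w) (hw _ he)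
  exact eq_zero_of_yon w E e rfl F (n + 1) (hF E hT n) b

end K646.HMV
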