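import Groth.Agent.AlgSp.K646.Free
import Mathlib.CategoryTheory.Sites.Over

/-!
# The unit module is `j_! O_T` for a terminal object `T`
-/

set_option autoImplicit false

universe w v u

open CategoryTheory CategoryTheory.Limits Opposite

namespace K646.UnitOU

open K646.Free

variable {C : Type u} [Category.{v} C] {J : GrothendieckTopology C} (R : Sheaf J RingCat.{max w v})
  [HasSheafify J AddCommGrpCat.{max w v}] [J.WEqualsLocallyBijective AddCommGrpCat.{max w v}]
  {T : C} (hT : IsTerminal T)

/-- The map `j_! O_T ⟶ O`. -/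
noncomputable def toUnit (T : C) : OU.{w} R T ⟶ SheafOfModules.unit R :=
  OUequiv.{w}.symm (1 : R.obj.obj (op T))

theorem OUequiv_toUnit_comp (M : SheafOfModules.{max w v} R) (f : SheafOfModules.unit R ⟶ M) :
    OUequiv.{w} (toUnit R T ≫ f) = f.val.app (op T) (1 : R.obj.obj (op T)) := by
  rw [OUequiv_comp, toUnit, Equiv.apply_symm_apply]

include hT in
theorem bijective (M : SheafOfModules.{max w v} R) :
    Function.Bijective (fun f : SheafOfModules.unit R ⟶ M => toUnit.{w} R T ≫ f) := by
  have h1 : ∀ f : SheafOfModules.unit R ⟶ M, OUequiv.{w} (toUnit.{w} R T ≫ f) =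
      (M.unitHomEquiv f).val (op T) := fun f => OUequiv_toUnit_comp R M f
  constructor
  · intro f g hfg
    apply M.unitHomEquiv.injective
    have h2 : (M.unitHomEquiv f).val (op T) = (M.unitHomEquiv g).val (op T) := by
      rw [← h1, ← h1]
      exact congrArg OUequiv.{w} hfg
    apply Subtype.ext
    funext W
    have h3 := (M.unitHomEquiv f).property (hT.from W.unop).op
    have h4 := (M.unitHomEquiv g).property (hT.from W.unop).op
    refine h3.symm.trans (Eq.trans ?_ h4)
    exact congrArg _ h2
  · intro φ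
    let s : M.val.presheaf.obj (op T) := OUequiv.{w} φ
    let σ : M.sections := ⟨fun W => M.val.presheaf.map (hT.from W.unop).op s, fun {W W'} f => by
      change M.val.presheaf.map f (M.val.presheaf.map (hT.from W.unop).op s) =
        M.val.presheaf.map (hT.from W'.unop).op s
      have h2 : (hT.from W.unop).op ≫ f = (hT.from W'.unop).op := Quiver.Hom.unop_inj (hT.hom_ext _ _)
      rw [← ConcreteCategory.comp_apply, ← Functor.map_comp, h2]⟩
    refine ⟨M.unitHomEquiv.symm σ, ?_⟩
    apply OUequiv.{w}.injective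
    refine (h1 _).trans ?_
    rw [Equiv.apply_symm_apply]
    change M.val.presheaf.map (hT.from T).op s = s
    rw [hT.hom_ext (hT.from T) (𝟙 T), op_id, CategoryTheory.Functor.map_id]
    rfl

include hT in
theorem isIso_toUnit : IsIso (toUnit.{w} R T) := by
  obtain ⟨g, hg⟩ := (bijective R hT (OU.{w} R T)).2 (𝟙 _)
  refine ⟨g, hg, ?_⟩
  apply (bijective R hT _).1
  change toUnit R T ≫ g ≫ toUnit R T = toUnit R T ≫ 𝟙 _
  replace hg : toUnit R T ≫ g = 𝟙 _ := hg
  rw [← Category.assoc, hg, Category.id_comp, Category.comp_id]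

/-- `j_! O_T ≅ O` for a terminal object `T`. -/
noncomputable def iso : OU.{w} R T ≅ SheafOfModules.unit R :=
  @asIso _ _ _ _ (toUnit.{w} R T) (isIso_toUnit R hT)

end K646.UnitOU
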