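import Groth.Agent.AlgSp.K646.EtAcyc
import Groth.Agent.AlgSp.K646.UnitOU

/-!
# Vanishing of `H^p(U, N)`, `p > 0`, `U` affine, for Čech acyclic modules
-/

set_option autoImplicit false

universe u

open CategoryTheory CategoryTheory.Limits AlgebraicGeometry Opposite

set_option backward.isDefEq.respectTransparency false

namespace K646.HOn

open K646.EtSite K646.EtAcyc Groth.Agent.CohtopB.CechCrit Groth.Agent.Etbase.CechCartan

attribute [local instance] HasDerivedCategory.standard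

variable {S : Scheme.{u}} {X : AlgSp.Sp S}

/-- `(S_0 (N|_U))[p]`. -/
noncomputable def shiftIso (U : AlgSp.EtOver X) (N : AlgSp.ModEt X) (p : ℤ) :
    ((AlgSp.resDEt U).obj (DCoh.inDMod (AlgSp.OEtRing X) N))⟦p⟧ ≅
      (DerivedCategory.singleFunctor (AlgSp.ModEtOn U) (-p)).obj ((AlgSp.resModEt U).obj N) :=
  (shiftFunctor _ p).mapIso (((AlgSp.resModEt U).mapDerivedCategorySingleFunctor 0).app N) ≪≫
      ((DerivedCategory.singleFunctors (AlgSp.ModEtOn U)).shiftIso p (-p) 0 (by lia)).app _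

/-- The unit in degree `0`. -/
noncomputable def unitIso (U : AlgSp.EtOver X) : (DerivedCategory.singleFunctor (AlgSp.ModEtOn U) 0).obj
      (K646.Free.OU.{u + 1} (AlgSp.OEtOn U) (Over.mk (𝟙 U))) ≅
      DCoh.inDMod (AlgSp.OEtOn U) (SheafOfModules.unit (AlgSp.OEtOn U)) :=
  (DerivedCategory.singleFunctor (AlgSp.ModEtOn U) 0).mapIso
      (K646.UnitOU.iso.{u + 1} (AlgSp.OEtOn U) Over.mkIdTerminal)

theorem subsingleton (U : AlgSp.EtOver X) (N : AlgSp.ModEt X) (hU : IsAffine (sch U))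
    (hN : CechAcyc (K646.EtAcyc.AffCov X) N.val.presheaf) (p : ℤ) (hp : 0 < p) :
    Subsingleton (AlgSp.HEtDOn U (DCoh.inDMod (AlgSp.OEtRing X) N) p) := by
  have key : ∀ f : AlgSp.HEtDOn U (DCoh.inDMod (AlgSp.OEtRing X) N) p, f = 0 := by
    intro f
    have h0 := K646.EtAcyc.hom_eq_zero_res U N hN (Over.mk (𝟙 U)) hU 0 (-p)
      (by lia) ((unitIso U).hom ≫ f ≫ (shiftIso U N p).hom)
    rw [← cancel_epi (unitIso U).hom, ← cancel_mono (shiftIso U N p).hom, Category.assoc, h0, comp_zero,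
      zero_comp]
  exact ⟨fun a b => (key a).trans (key b).symm⟩

end K646.HOn
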