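import Groth.Agent.AlgSp.K646.LimSec
import Groth.Agent.AlgSp.K646.AffSec

/-!
# Limits of towers of quasi-coherent modules with epimorphic transition maps are acyclic on affine objects
-/

set_option autoImplicit false

universe w v u

open CategoryTheory CategoryTheory.Limits AlgebraicGeometry Opposite Simplicial

set_option backward.isDefEq.respectTransparency false

namespace K646.LimAcyc

open Groth.Agent.Etbase.CechCartan Groth.Agent.CohtopB.CechCrit K646.EtSite K646.AcycX K646.RlimAbs
  K646.LimSec K646.EtAcyc K646.Bas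

theorem dC_bs {C : Type u} [Category.{v} C] {V U : C} (f : V ⟶ U) [∀ n : ℕ, HasWidePullback (Arrow.mk f).right
    (fun _ : Fin (n + 1) => (Arrow.mk f).left) fun _ => (Arrow.mk f).hom] 
    (P : Cᵒᵖ ⥤ AddCommGrpCat.{w}) (s : P.obj (op U)) :
    dC P (Arrow.mk f).cechNerve 0 (P.map (bs f 0).op s) = 0 := by
  rw [dC_apply, Fin.sum_univ_two]
  simp only [Fin.val_zero, pow_zero, one_smul, Fin.val_one, pow_one, neg_smul]
  rw [← sub_eq_add_neg, sub_eq_zero]
  have h3 : ∀ i, P.map ((Arrow.mk f).cechNerve.δ i).op (P.map (bs f 0).op s) = P.map (bs f 1).op s := by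
    intro i
    rw [← δ_bs f 0 i, op_comp, Functor.map_comp]
    rfl
  rw [h3, h3]

variable {S : Scheme.{u}} {X : AlgSp.Sp S}

theorem cechAcyc_lim (M : ℕ → AlgSp.ModEt X) (t : ∀ n, M (n + 1) ⟶ M n) (hM : ∀ n, (M n).IsQuasicoherent)
    (ht : ∀ n, Epi (t n)) [HasLimit (Functor.ofOpSequence t)] :
    CechAcyc (K646.EtAcyc.AffCov X) (limit (Functor.ofOpSequence t)).val.presheaf := by
  intro V U f hf
  have hE : ∀ n, IsAffine (sch ((Arrow.mk f).cechNerve _⦋n⦌)) := isAffine_cechNerve f hf.1 hf.2.1
  refine exact'_lim (Pn := fun n => (M n).val.presheaf)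
    (fun n => (PresheafOfModules.toPresheaf _).map (t n).val)
    (fun n => (PresheafOfModules.toPresheaf _).map (lπ M t n).val) (fun n => ?_) _
    (fun k x hx => exists_sec.{u + 1} M t _ x hx) (fun k s s' h => sec_ext.{u + 1} M t _ s s' h)
    (fun k n s => ?_) (fun n => ?_) (fun n x hx => ?_)
  · rw [← Functor.map_comp]
    congr 1
    exact congrArg (fun z => z.val) (lπ_succ M t n)
  · have := hM n
    have := hM (n + 1)
    have := ht n
    exact K646.AffSec.exists_sec (t n) (hE k) s
  · have := hM n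
    exact K646.QCech.cechAcyc (M n) f hf
  · have := hM n
    have := hM (n + 1)
    have := ht n
    obtain ⟨y, hy⟩ := sheaf_glue.{u + 1} ((SheafOfModules.toSheaf.{u + 1} _).obj (M n)) f ((affBasis X).cov f hf) x hx
    obtain ⟨z, hz⟩ := K646.AffSec.exists_sec (t n) hf.2.1 y
    refine ⟨(M (n + 1)).val.presheaf.map (bs f 0).op z, dC_bs f (M (n + 1)).val.presheaf z, ?_⟩
    refine (ConcreteCategory.congr_hom (((PresheafOfModules.toPresheaf _).map (t n).val).naturality
      (bs f 0).op) z).trans ?_
    refine Eq.trans ?_ hy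
    exact congrArg ((M n).val.presheaf.map (bs f 0).op) hz

end K646.LimAcyc
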