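import Groth.Agent.AlgSp.K646.RlimAbs
import Groth.Agent.AlgSp.K646.Basis

/-!
# Limits of towers of sheaves of modules: sections and Čech acyclicity
-/

set_option autoImplicit false

universe w v u

open CategoryTheory CategoryTheory.Limits Opposite Simplicial

namespace K646.LimSec

open Groth.Agent.Etbase.CechCartan K646.Free K646.RlimAbs Groth.Agent.CohtopB.CechCrit K646.Bas

section abs

variable {D : Type*} [Category* D] (M : ℕ → D) (t : ∀ n, M (n + 1) ⟶ M n) [HasLimit (Functor.ofOpSequence t)]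

theorem exists_lim_lift {T : D} (k : ∀ n, T ⟶ M n) (hk : ∀ n, k (n + 1) ≫ t n = k n) :
    ∃ l : T ⟶ limit (Functor.ofOpSequence t), ∀ n, l ≫ lπ M t n = k n := by
  let c : Cone (Functor.ofOpSequence t) :=
    { pt := T
      π := NatTrans.ofOpSequence (fun n => k n) (fun n => by
        rw [Functor.ofOpSequence_map_homOfLE_succ]
        change 𝟙 _ ≫ _ = _
        rw [Category.id_comp]
        exact (hk n).symm) }
  exact ⟨limit.lift _ c, fun n => limit.lift_π c (op n)⟩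

theorem lim_hom_ext {T : D} {k l : T ⟶ limit (Functor.ofOpSequence t)} (h : ∀ n, k ≫ lπ M t n = l ≫ lπ M t n) :
    k = l := limit.hom_ext fun n => h n.unop

end abs

section mod

variable {C : Type u} [Category.{v} C] {J : GrothendieckTopology C} {R : Sheaf J RingCat.{max w v}}
  [HasSheafify J AddCommGrpCat.{max w v}] [J.WEqualsLocallyBijective AddCommGrpCat.{max w v}]
  (M : ℕ → SheafOfModules.{max w v} R) (t : ∀ n, M (n + 1) ⟶ M n) [HasLimit (Functor.ofOpSequence t)]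

theorem exists_sec (U : C) (x : ∀ n, (M n).val.obj (op U)) (hx : ∀ n, (t n).val.app (op U) (x (n + 1)) = x n) :
    ∃ s : (limit (Functor.ofOpSequence t)).val.obj (op U), ∀ n, (lπ M t n).val.app (op U) s = x n := by
  obtain ⟨l, hl⟩ := exists_lim_lift M t (fun n => OUequiv.{w}.symm (x n)) (fun n => by
    rw [OUequiv_symm_comp, hx])
  refine ⟨OUequiv.{w} l, fun n => ?_⟩
  rw [← OUequiv_comp, hl, Equiv.apply_symm_apply]

theorem sec_ext (U : C) (s s' : (limit (Functor.ofOpSequence t)).val.obj (op U))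
    (h : ∀ n, (lπ M t n).val.app (op U) s = (lπ M t n).val.app (op U) s') : s = s' := by
  apply OUequiv.{w}.symm.injective
  apply lim_hom_ext
  intro n
  rw [OUequiv_symm_comp, OUequiv_symm_comp, h]

end mod

section cech

variable {C : Type u} [Category.{v} C]

theorem exact'_lim {P : Cᵒᵖ ⥤ AddCommGrpCat.{w}} {Pn : ℕ → Cᵒᵖ ⥤ AddCommGrpCat.{w}}
    (t : ∀ n, Pn (n + 1) ⟶ Pn n) (π : ∀ n, P ⟶ Pn n) (hπ : ∀ n, π (n + 1) ≫ t n = π n)
    (E : SimplicialObject C)
    (hlim : ∀ k (x : ∀ n, (Pn n).obj (op (E _⦋k⦌))), (∀ n, (t n).app _ (x (n + 1)) = x n) →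
      ∃ s : P.obj (op (E _⦋k⦌)), ∀ n, (π n).app _ s = x n)
    (hext : ∀ k (s s' : P.obj (op (E _⦋k⦌))), (∀ n, (π n).app _ s = (π n).app _ s') → s = s')
    (hsurj : ∀ k n, Function.Surjective ((t n).app (op (E _⦋k⦌))))
    (hex : ∀ n, Exact' (Pn n) E)
    (hK0 : ∀ n (x : (Pn n).obj (op (E _⦋0⦌))), dC (Pn n) E 0 x = 0 →
      ∃ x' : (Pn (n + 1)).obj (op (E _⦋0⦌)), dC (Pn (n + 1)) E 0 x' = 0 ∧ (t n).app _ x' = x) :
    Exact' P E := by
  -- cocycles lift
  have hK : ∀ k n (x : (Pn n).obj (op (E _⦋k⦌))), dC (Pn n) E k x = 0 →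
      ∃ x' : (Pn (n + 1)).obj (op (E _⦋k⦌)), dC (Pn (n + 1)) E k x' = 0 ∧ (t n).app _ x' = x := by
    intro k n x hx
    cases k with
    | zero => exact hK0 n x hx
    | succ k =>
      obtain ⟨w, rfl⟩ := hex n k x hx
      obtain ⟨w', rfl⟩ := hsurj k n w
      exact ⟨dC (Pn (n + 1)) E k w', dC_dC_apply _ _ _ _, dC_naturality_apply _ _ _ _⟩
  intro k x hx
  have hxn : ∀ n, dC (Pn n) E (k + 1) ((π n).app _ x) = 0 := by
    intro n
    rw [← dC_naturality_apply, hx, map_zero]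
  have htx : ∀ n, (t n).app _ ((π (n + 1)).app _ x) = (π n).app (op (E _⦋k + 1⦌)) x := by
    intro n
    rw [← hπ n]
    rfl
  -- the recursion
  have step : ∀ n (y : (Pn n).obj (op (E _⦋k⦌))), dC (Pn n) E k y = (π n).app _ x →
      ∃ y' : (Pn (n + 1)).obj (op (E _⦋k⦌)), dC (Pn (n + 1)) E k y' = (π (n + 1)).app _ x ∧
        (t n).app _ y' = y := by
    intro n y hy
    obtain ⟨z, hz⟩ := hex (n + 1) k _ (hxn (n + 1))
    obtain ⟨z', hz', hz''⟩ := hK k n ((t n).app _ z - y) (by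
      rw [map_sub, ← dC_naturality_apply, hz, hy, htx, sub_self])
    refine ⟨z - z', ?_, ?_⟩
    · rw [map_sub, hz, hz', sub_zero]
    · rw [map_sub, hz'', sub_sub_cancel]
  let Y : ∀ n, {y : (Pn n).obj (op (E _⦋k⦌)) // dC (Pn n) E k y = (π n).app _ x} := fun n =>
    Nat.rec (motive := fun n => {y : (Pn n).obj (op (E _⦋k⦌)) // dC (Pn n) E k y = (π n).app _ x})
      ⟨(hex 0 k _ (hxn 0)).choose, (hex 0 k _ (hxn 0)).choose_spec⟩
      (fun n y => ⟨(step n y.1 y.2).choose, (step n y.1 y.2).choose_spec.1⟩) n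
  have hY : ∀ n, (t n).app _ (Y (n + 1)).1 = (Y n).1 := fun n => (step n (Y n).1 (Y n).2).choose_spec.2
  obtain ⟨s, hs⟩ := hlim k (fun n => (Y n).1) hY
  refine ⟨s, hext _ _ _ fun n => ?_⟩
  rw [dC_naturality_apply, hs, (Y n).2]

end cech

end K646.LimSec
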