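import Groth.Agent.AlgSp.K646.MVSq
import Groth.Agent.AlgSp.K646.ModSec
import Groth.Prelude.Def_W4SpPerfMV

/-!
# Mayer-Vietoris sequence of direct images for an elementary distinguished square of schemes etale over `X`
-/

set_option autoImplicit false

universe u

open CategoryTheory CategoryTheory.Limits AlgebraicGeometry Opposite
open AlgSp K646.EtSite K646.ModSec

set_option backward.isDefEq.respectTransparency false

namespace K646.MVPush

variable {S : Scheme.{u}} {X : AlgSp.Sp S}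

/-- The underlying sheaf of abelian groups. -/
noncomputable abbrev ab (F : AlgSp.ModEt X) : AlgSp.AbEt X := (SheafOfModules.toSheaf _).obj F

/-- `j_* (F|_U)` -/
noncomputable abbrev pr (U : AlgSp.EtOver X) (F : AlgSp.ModEt X) : AlgSp.ModEt X :=
  (AlgSp.resModEt U ⋙ AlgSp.pushOnModEt U).obj F

/-- The unit. -/
noncomputable def eta (U : AlgSp.EtOver X) (F : AlgSp.ModEt X) : F ⟶ pr U F :=
  (AlgSp.resPushAdjEt U).unit.app F

/-- The restriction map. -/
noncomputable def rho {U U' : AlgSp.EtOver X} (g : U' ⟶ U) (F : AlgSp.ModEt X) : pr U F ⟶ pr U' F :=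
  (AlgSp.pushResNatTrans g).app F

/-- sections of `j_* (F|_U)` -/
noncomputable def ev (U : AlgSp.EtOver X) (F : AlgSp.ModEt X) (W : AlgSp.EtOver X) :
    sec (pr U F) W ≃+ sec F (U ⨯ W) := AddEquiv.refl _

theorem ev_eta (U : AlgSp.EtOver X) (F : AlgSp.ModEt X) (W : AlgSp.EtOver X) (s : sec F W) :
    ev U F W (app (eta U F) W s) = res F (prod.snd : U ⨯ W ⟶ W) s := by
  rw [← Over.forgetAdjStar_counit_app]
  rfl

theorem ev_rho {U U' : AlgSp.EtOver X} (g : U' ⟶ U) (F : AlgSp.ModEt X) (W : AlgSp.EtOver X)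
    (s : sec (pr U F) W) :
    ev U' F W (app (rho g F) W s) = res F (prod.map g (𝟙 W)) (ev U F W s) := rfl

theorem ev_res (U : AlgSp.EtOver X) (F : AlgSp.ModEt X) {W W' : AlgSp.EtOver X} (g : W' ⟶ W)
    (s : sec (pr U F) W) :
    ev U F W' (res (pr U F) g s) = res F (prod.map (𝟙 U) g) (ev U F W s) := rfl

noncomputable instance : Abelian (AlgSp.ModEt X) := inferInstance

instance : HasBinaryBiproducts (AlgSp.ModEt X) := inferInstance

variable {U V P : AlgSp.EtOver X} (h : IsElemDistSq U.obj.hom V.obj.hom)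
  (p : P ⟶ U) (q : P ⟶ V) (hP : IsLimit (BinaryFan.mk p q)) (F : AlgSp.ModEt X)

include hP in
omit F in
theorem exists_lift {Z : AlgSp.EtOver X} (f : Z ⟶ U) (g : Z ⟶ V) : ∃ l : Z ⟶ P, l ≫ p = f ∧ l ≫ q = g := by
  obtain ⟨l, hl1, hl2⟩ := BinaryFan.IsLimit.lift' hP f g
  exact ⟨l, hl1, hl2⟩

include hP in
omit F in
theorem hom_ext' {Z : AlgSp.EtOver X} {f g : Z ⟶ P} (h1 : f ≫ p = g ≫ p) (h2 : f ≫ q = g ≫ q) : f = g :=
  BinaryFan.IsLimit.hom_ext hP h1 h2

/-- The maps of the sequence. -/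
noncomputable abbrev fst' : F ⟶ pr U F ⊞ pr V F := biprod.lift (eta U F) (eta V F)

/-- The maps of the sequence. -/
noncomputable abbrev snd' : pr U F ⊞ pr V F ⟶ pr P F := biprod.desc (rho p F) (-(rho q F))

theorem rho_eta {U P : AlgSp.EtOver X} (p : P ⟶ U) (F : AlgSp.ModEt X) : eta U F ≫ rho p F = eta P F := by
  apply hom_ext
  intro W s
  apply (ev P F W).injective
  rw [app_comp, ev_rho, ev_eta, ev_eta, ← res_comp, prod.map_snd, Category.comp_id]

theorem zero : fst' (U := U) (V := V) F ≫ snd' p q F = 0 := by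
  rw [biprod.lift_desc, Preadditive.comp_neg, rho_eta, rho_eta, add_neg_cancel]

include h in
theorem cov_sieve (W : AlgSp.EtOver X) :
    ∃ T ∈ AlgSp.etTop X W, ∀ ⦃W' : AlgSp.EtOver X⦄ (g : W' ⟶ W), T g → Nonempty (W' ⟶ U) ∨ Nonempty (W' ⟶ V) := by
  refine ⟨⟨fun W' g => Nonempty (W' ⟶ U) ∨ Nonempty (W' ⟶ V), fun {Y Z f} hf g => ?_⟩, ?_, fun W' g hg => hg⟩
  · rcases hf with ⟨⟨a⟩⟩ | ⟨⟨a⟩⟩
    · exact Or.inl ⟨g ≫ a⟩
    · exact Or.inr ⟨g ≫ a⟩
  · rw [mem_etTop_iff]
    intro x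
    rcases MVSq.cover h W x with hx | hx
    · exact ⟨U ⨯ W, prod.snd, Or.inl ⟨prod.fst⟩, hx⟩
    · exact ⟨V ⨯ W, prod.snd, Or.inr ⟨prod.fst⟩, hx⟩

include h in
/-- the covering of `W` by `U × W` and `V × W` -/
theorem cov_bool (W : AlgSp.EtOver X) (x : ↥(sch W)) :
    ∃ i : Bool, x ∈ Set.range (mor (match i with
      | true => (prod.snd : U ⨯ W ⟶ W)
      | false => (prod.snd : V ⨯ W ⟶ W) : (if i then U ⨯ W else V ⨯ W) ⟶ W)) := by
  rcases MVSq.cover h W x with hx | hx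
  · exact ⟨true, hx⟩
  · exact ⟨false, hx⟩

include h in
theorem mono_fst' : Mono (fst' (U := U) (V := V) F) := by
  apply mono_of_injective
  intro W s hs
  obtain ⟨h1, h2⟩ := lift_app_eq_zero _ _ _ _ hs
  have h1 : res F (prod.snd : U ⨯ W ⟶ W) s = 0 := by
    rw [← ev_eta, h1, map_zero]
  have h2 : res F (prod.snd : V ⨯ W ⟶ W) s = 0 := by
    rw [← ev_eta, h2, map_zero]
  refine ext_of_cover (ab F) (W := W) (ι := Bool) (U := fun i => if i then U ⨯ W else V ⨯ W)
    (fun i => match i with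
      | true => (prod.snd : U ⨯ W ⟶ W)
      | false => (prod.snd : V ⨯ W ⟶ W)) (cov_bool h W) (fun i => ?_)
  cases i
  · exact h2.trans (map_zero (res F (prod.snd : V ⨯ W ⟶ W))).symm
  · exact h1.trans (map_zero (res F (prod.snd : U ⨯ W ⟶ W))).symm

include h hP in
theorem glue (W : AlgSp.EtOver X) (a : sec F (U ⨯ W)) (b : sec F (V ⨯ W))
    (hab : res F (prod.map p (𝟙 W)) a = res F (prod.map q (𝟙 W)) b) :
    ∃ s : sec F W, res F (prod.snd : U ⨯ W ⟶ W) s = a ∧ res F (prod.snd : V ⨯ W ⟶ W) s = b := by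
  -- equality of restrictions
  have key : ∀ (Z : AlgSp.EtOver X) (f : Z ⟶ U ⨯ W) (g : Z ⟶ V ⨯ W), f ≫ prod.snd = g ≫ prod.snd →
      res F f a = res F g b := by
    intro Z f g hfg
    obtain ⟨l, hl1, hl2⟩ := exists_lift p q hP (f ≫ prod.fst) (g ≫ prod.fst)
    have e1 : prod.lift l (f ≫ prod.snd) ≫ prod.map p (𝟙 W) = f := by
      apply Limits.prod.hom_ext
      · rw [Category.assoc, prod.map_fst, prod.lift_fst_assoc, hl1]
      · rw [Category.assoc, prod.map_snd, prod.lift_snd_assoc, Category.comp_id]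
    have e2 : prod.lift l (f ≫ prod.snd) ≫ prod.map q (𝟙 W) = g := by
      apply Limits.prod.hom_ext
      · rw [Category.assoc, prod.map_fst, prod.lift_fst_assoc, hl2]
      · rw [Category.assoc, prod.map_snd, prod.lift_snd_assoc, Category.comp_id, hfg]
    have h3 := congrArg (res F (prod.lift l (f ≫ prod.snd))) hab
    rwa [← res_comp, ← res_comp, e1, e2] at h3
  have keyU : ∀ (Z : AlgSp.EtOver X) (f g : Z ⟶ U ⨯ W), f ≫ prod.snd = g ≫ prod.snd →
      res F f a = res F g a := by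
    intro Z f g hfg
    rw [show f = g from Limits.prod.hom_ext (MVSq.mono_U h _ _) hfg]
  have keyV : ∀ (Z : AlgSp.EtOver X) (f g : Z ⟶ V ⨯ W), f ≫ prod.snd = g ≫ prod.snd →
      res F f b = res F g b := by
    intro Z f g hfg
    refine ext_of_cover (ab F) (W := Z)
      (ι := {E : Σ E : AlgSp.EtOver X, (E ⟶ Z) // Nonempty (E.1 ⟶ U) ∨ E.2 ≫ f = E.2 ≫ g})
      (U := fun i => i.1.1) (fun i => i.1.2) (fun x => ?_) (fun i => ?_)
    · obtain ⟨E', g', hx, h'⟩ := MVSq.agree h (f ≫ prod.fst) (g ≫ prod.fst) x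
      refine ⟨⟨⟨E', g'⟩, ?_⟩, hx⟩
      rcases h' with h' | h'
      · exact Or.inl h'
      · refine Or.inr (Limits.prod.hom_ext ?_ ?_)
        · rw [Category.assoc, Category.assoc, h']
        · rw [Category.assoc, Category.assoc, hfg]
    · obtain ⟨⟨E, e⟩, hE⟩ := i
      change res F e (res F f b) = res F e (res F g b)
      rw [← res_comp, ← res_comp]
      rcases hE with ⟨⟨u0⟩⟩ | hE
      · have e0 : prod.lift u0 (e ≫ f ≫ prod.snd) ≫ (prod.snd : U ⨯ W ⟶ W) = e ≫ f ≫ prod.snd :=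
          prod.lift_snd _ _
        rw [← key E (prod.lift u0 (e ≫ f ≫ prod.snd)) (e ≫ f) (by rw [e0, Category.assoc]),
          ← key E (prod.lift u0 (e ≫ f ≫ prod.snd)) (e ≫ g) (by rw [e0, Category.assoc, hfg])]
      · exact congrArg (fun k => res F k b) hE
  obtain ⟨s, hs, -⟩ := existsUnique_glue (ab F) (W := W) (ι := Bool) (U := fun i => if i then U ⨯ W else V ⨯ W)
    (fun i => match i with
      | true => (prod.snd : U ⨯ W ⟶ W)
      | false => (prod.snd : V ⨯ W ⟶ W)) (cov_bool h W) (fun i => match i with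
      | true => a
      | false => b) (fun i j Z gi gj hg => by
        cases i <;> cases j
        · exact keyV Z gi gj hg
        · exact (key Z gj gi hg.symm).symm
        · exact key Z gi gj hg
        · exact keyU Z gi gj hg)
  exact ⟨s, hs true, hs false⟩

include h hP in
theorem exact : (ShortComplex.mk _ _ (zero (U := U) (V := V) p q F)).Exact := by
  apply exact_of_sections
  intro W x hx
  replace hx : app (snd' p q F) W x = 0 := hx
  rw [desc_app, app_neg] at hx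
  replace hx := congrArg (ev P F W) (sub_eq_zero.1 ((sub_eq_add_neg _ _).trans hx))
  rw [ev_rho, ev_rho] at hx
  obtain ⟨s, hs1, hs2⟩ := glue h p q hP F W _ _ hx
  refine ⟨s, lift_app_eq _ _ _ _ _ ?_ ?_⟩
  · apply (ev U F W).injective
    rw [ev_eta, hs1]
  · apply (ev V F W).injective
    rw [ev_eta, hs2]

include h hP in
/-- lifting over an object mapping to `U` -/
theorem lift_of_U {W : AlgSp.EtOver X} (u0 : W ⟶ U) (c : sec F (P ⨯ W)) :
    ∃ (a : sec F (U ⨯ W)) (b : sec F (V ⨯ W)),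
      res F (prod.map p (𝟙 W)) a - res F (prod.map q (𝟙 W)) b = c := by
  obtain ⟨l, hl1, hl2⟩ := exists_lift p q hP ((prod.snd : V ⨯ W ⟶ W) ≫ u0) prod.fst
  refine ⟨0, - res F (prod.lift l prod.snd) c, ?_⟩
  rw [map_zero, map_neg, sub_neg_eq_add, zero_add, ← res_comp]
  have e : prod.map q (𝟙 W) ≫ prod.lift l prod.snd = 𝟙 (P ⨯ W) := by
    apply Limits.prod.hom_ext
    · rw [Category.assoc, prod.lift_fst, Category.id_comp]
      refine hom_ext' p q hP (MVSq.mono_U h _ _) ?_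
      rw [Category.assoc, hl2, prod.map_fst]
    · rw [Category.assoc, prod.lift_snd, prod.map_snd, Category.comp_id, Category.id_comp]
  rw [e, res_id]

include h hP in
/-- lifting over an object mapping to `V` -/
theorem lift_of_V {W : AlgSp.EtOver X} (v0 : W ⟶ V) (c : sec F (P ⨯ W)) :
    ∃ (a : sec F (U ⨯ W)) (b : sec F (V ⨯ W)),
      res F (prod.map p (𝟙 W)) a - res F (prod.map q (𝟙 W)) b = c := by
  obtain ⟨l, hl1, hl2⟩ := exists_lift p q hP (prod.fst : U ⨯ W ⟶ U) (prod.snd ≫ v0)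
  let a : sec F (U ⨯ W) := res F (prod.lift l prod.snd) c
  -- the section on an object over `V × W` mapping to `U`
  let L : ∀ {Z : AlgSp.EtOver X} (z : Z ⟶ V ⨯ W) (u : Z ⟶ U), Z ⟶ P := fun z u =>
    (exists_lift p q hP u (z ≫ prod.fst)).choose
  have hL1 : ∀ {Z : AlgSp.EtOver X} (z : Z ⟶ V ⨯ W) (u : Z ⟶ U), L z u ≫ p = u := fun z u =>
    (exists_lift p q hP u (z ≫ prod.fst)).choose_spec.1
  have hL2 : ∀ {Z : AlgSp.EtOver X} (z : Z ⟶ V ⨯ W) (u : Z ⟶ U), L z u ≫ q = z ≫ prod.fst := fun z u =>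
    (exists_lift p q hP u (z ≫ prod.fst)).choose_spec.2
  let t : ∀ {Z : AlgSp.EtOver X} (z : Z ⟶ V ⨯ W) (u : Z ⟶ U), sec F Z := fun z u =>
    res F (prod.lift u (z ≫ prod.snd)) a - res F (prod.lift (L z u) (z ≫ prod.snd)) c
  have hUeq : ∀ {Z : AlgSp.EtOver X} (u u' : Z ⟶ U), u = u' := fun u u' => MVSq.mono_U h _ _
  have ht : ∀ {Y Z : AlgSp.EtOver X} (y : Y ⟶ Z) (z : Z ⟶ V ⨯ W) (u : Z ⟶ U) (u' : Y ⟶ U),
      res F y (t z u) = t (y ≫ z) u' := by
    intro Y Z y z u u'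
    have e1 : y ≫ prod.lift u (z ≫ prod.snd) = prod.lift u' ((y ≫ z) ≫ prod.snd) := by
      apply Limits.prod.hom_ext
      · exact hUeq _ _
      · rw [Category.assoc, prod.lift_snd, prod.lift_snd, Category.assoc]
    have e2 : y ≫ prod.lift (L z u) (z ≫ prod.snd) = prod.lift (L (y ≫ z) u') ((y ≫ z) ≫ prod.snd) := by
      apply Limits.prod.hom_ext
      · rw [Category.assoc, prod.lift_fst, prod.lift_fst]
        refine hom_ext' p q hP (hUeq _ _) ?_
        rw [Category.assoc, hL2, hL2, Category.assoc]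
      · rw [Category.assoc, prod.lift_snd, prod.lift_snd, Category.assoc]
    have e3 := (res_comp F _ y a).symm.trans (congrArg (fun k => res F k a) e1)
    have e4 := (res_comp F _ y c).symm.trans (congrArg (fun k => res F k c) e2)
    exact (map_sub (res F y) _ _).trans (congrArg₂ (fun x y => x - y) e3 e4)
  have ht0 : ∀ {Z : AlgSp.EtOver X} (z : Z ⟶ V ⨯ W) (u : Z ⟶ U), z ≫ prod.fst = z ≫ prod.snd ≫ v0 →
      t z u = 0 := by
    intro Z z u hz
    have e : prod.lift u (z ≫ prod.snd) ≫ prod.lift l prod.snd = prod.lift (L z u) (z ≫ prod.snd) := by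
      apply Limits.prod.hom_ext
      · rw [Category.assoc, prod.lift_fst, prod.lift_fst]
        refine hom_ext' p q hP (hUeq _ _) ?_
        rw [Category.assoc, hl2, hL2, prod.lift_snd_assoc, Category.assoc, hz]
      · rw [Category.assoc, prod.lift_snd, prod.lift_snd, prod.lift_snd]
    change res F _ (res F _ c) - res F _ c = 0
    rw [← res_comp, e, sub_self]
  classical
  let ι := {E : Σ E : AlgSp.EtOver X, (E ⟶ V ⨯ W) // Nonempty (E.1 ⟶ U) ∨
    E.2 ≫ prod.fst = E.2 ≫ prod.snd ≫ v0}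
  let sct : ∀ i : ι, sec F i.1.1 := fun i => if hi : Nonempty (i.1.1 ⟶ U) then t i.1.2 hi.some else 0
  have hsct : ∀ (i : ι) {Y : AlgSp.EtOver X} (y : Y ⟶ i.1.1) (u' : Y ⟶ U),
      res F y (sct i) = t (y ≫ i.1.2) u' := by
    intro i Y y u'
    by_cases hi : Nonempty (i.1.1 ⟶ U)
    · simp only [sct, dif_pos hi]
      exact ht _ _ _ _
    · simp only [sct, dif_neg hi]
      rw [map_zero, ht0]
      rcases i.2 with h' | h'
      · exact absurd h' hi
      · rw [Category.assoc, Category.assoc, h']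
  have hsct' : ∀ (i : ι) {Y : AlgSp.EtOver X} (y : Y ⟶ i.1.1), ¬ Nonempty (Y ⟶ U) →
      res F y (sct i) = 0 := by
    intro i Y y hY
    have hi : ¬ Nonempty (i.1.1 ⟶ U) := fun ⟨u⟩ => hY ⟨y ≫ u⟩
    simp only [sct, dif_neg hi]
    rw [map_zero]
  obtain ⟨b, hb, -⟩ := existsUnique_glue (ab F) (W := V ⨯ W) (ι := ι) (U := fun i => i.1.1)
    (fun i => i.1.2) (fun x => by
      obtain ⟨E', g', hx, h'⟩ := MVSq.agree h (prod.fst : V ⨯ W ⟶ V) (prod.snd ≫ v0) x
      exact ⟨⟨⟨E', g'⟩, h'⟩, hx⟩) sct (fun i j Z gi gj hg => by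
      by_cases hZ : Nonempty (Z ⟶ U)
      · obtain ⟨u⟩ := hZ
        refine (hsct i gi u).trans (Eq.trans ?_ (hsct j gj u).symm)
        rw [hg]
      · exact (hsct' i gi hZ).trans (hsct' j gj hZ).symm)
  refine ⟨a, b, ?_⟩
  have h1 : res F (prod.map q (𝟙 W)) b = t (prod.map q (𝟙 W)) (prod.fst ≫ p) := by
    let i0 : ι := ⟨⟨P ⨯ W, prod.map q (𝟙 W)⟩, Or.inl ⟨prod.fst ≫ p⟩⟩
    have h2 : res F (prod.map q (𝟙 W)) b = sct i0 := hb i0
    rw [h2]
    have h3 := hsct i0 (𝟙 _) (prod.fst ≫ p)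
    rw [res_id] at h3
    rw [h3]
    simp only [i0, Category.id_comp]
  rw [h1]
  change _ - (res F _ a - res F _ c) = c
  have e1 : prod.lift (prod.fst ≫ p) (prod.map q (𝟙 W) ≫ prod.snd) = prod.map p (𝟙 W) := by
    apply Limits.prod.hom_ext
    · rw [prod.lift_fst, prod.map_fst]
    · rw [prod.lift_snd, prod.map_snd, prod.map_snd]
  have e2 : prod.lift (L (prod.map q (𝟙 W)) (prod.fst ≫ p)) (prod.map q (𝟙 W) ≫ prod.snd) = 𝟙 (P ⨯ W) := by
    apply Limits.prod.hom_ext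
    · rw [prod.lift_fst, Category.id_comp]
      refine hom_ext' p q hP (hUeq _ _) ?_
      rw [hL2, prod.map_fst]
    · rw [prod.lift_snd, prod.map_snd, Category.comp_id, Category.id_comp]
  rw [e1, e2, res_id, sub_sub_cancel]

include h hP in
theorem epi_snd' : Epi (snd' p q F) := by
  apply epi_of_local
  intro W c
  obtain ⟨T, hT, hT'⟩ := cov_sieve h W
  refine ⟨T, hT, fun W' g hg => ?_⟩
  obtain ⟨a, b, hab⟩ : ∃ (a : sec F (U ⨯ W')) (b : sec F (V ⨯ W')),
      res F (prod.map p (𝟙 W')) a - res F (prod.map q (𝟙 W')) b = ev P F W' (res (pr P F) g c) := by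
    rcases hT' g hg with ⟨⟨u0⟩⟩ | ⟨⟨v0⟩⟩
    · exact lift_of_U h p q hP F u0 _
    · exact lift_of_V h p q hP F v0 _
  refine ⟨app biprod.inl W' ((ev U F W').symm a) + app biprod.inr W' ((ev V F W').symm b), ?_⟩
  apply (ev P F W').injective
  rw [desc_app, fst_inl, snd_inr, app_neg, map_add, map_neg, ev_rho, ev_rho, AddEquiv.apply_symm_apply,
    AddEquiv.apply_symm_apply, ← sub_eq_add_neg, hab]

include h hP in
theorem shortExact : (ShortComplex.mk _ _ (zero (U := U) (V := V) p q F)).ShortExact := by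
  have := mono_fst' h F
  have := epi_snd' h p q hP F
  exact { exact := exact h p q hP F }

end K646.MVPush
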