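import Mathlib.CategoryTheory.Adjunction.Mates
import Mathlib.CategoryTheory.Adjunction.Additive
import Mathlib.Algebra.Homology.ShortComplex.ShortExact
import Mathlib.CategoryTheory.Abelian.Basic
import Mathlib.Algebra.Homology.ShortComplex.Abelian
import Mathlib.CategoryTheory.Preadditive.Injective.Basic

/-!
# Mayer-Vietoris sequence of left adjoints from the one of right adjoints
-/

set_option autoImplicit false

universe v u

open CategoryTheory CategoryTheory.Limits

namespace K646.MVShriek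

set_option linter.unusedSectionVars false

variable {C : Type u} [Category.{v} C]

theorem unit_comp {C : Type*} [Category* C] {D : Type*} [Category* D] {res : C ⥤ D} {psh shr : D ⥤ C}
    (a : res ⊣ psh) (b : shr ⊣ res) (G : C) :
    (a.comp b).unit.app G ≫ (res ⋙ psh).map (b.counit.app G) = a.unit.app G := by
  rw [Adjunction.comp_unit_app, Functor.comp_map, Category.assoc, ← Functor.map_comp,
    b.right_triangle_components, CategoryTheory.Functor.map_id, Category.comp_id]

section

variable {LU LP RU RP : C ⥤ C} (aU : LU ⊣ RU) (aP : LP ⊣ RP) (rU : RU ⟶ RP)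

theorem homEquiv_lam {F G : C} (f : LU.obj F ⟶ G) :
    aP.homEquiv F G (((conjugateEquiv aU aP).symm rU).app F ≫ f) = aU.homEquiv F G f ≫ rU.app G := by
  rw [Adjunction.homEquiv_unit, Adjunction.homEquiv_unit, Functor.map_comp, ← Category.assoc,
    ← unit_conjugateEquiv_symm, Category.assoc, Category.assoc, ← rU.naturality]

variable (eU : ∀ F : C, LU.obj F ⟶ F) (nU : ∀ F : C, F ⟶ RU.obj F)
  (hU : ∀ F : C, aU.unit.app F ≫ RU.map (eU F) = nU F)
  (hn : ∀ {F G : C} (f : F ⟶ G), nU F ≫ RU.map f = f ≫ nU G)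

include hU hn in
theorem homEquiv_e {F G : C} (f : F ⟶ G) : aU.homEquiv F G (eU F ≫ f) = f ≫ nU G := by
  rw [Adjunction.homEquiv_unit, Functor.map_comp, ← Category.assoc, hU, hn]

end

variable [Abelian C] {LU LV LP RU RV RP : C ⥤ C} (aU : LU ⊣ RU) (aV : LV ⊣ RV) (aP : LP ⊣ RP)
  [RU.Additive] [RV.Additive] [RP.Additive]
  (eU : ∀ F : C, LU.obj F ⟶ F) (nU : ∀ F : C, F ⟶ RU.obj F)
  (hU : ∀ F : C, aU.unit.app F ≫ RU.map (eU F) = nU F)
  (hnU : ∀ {F G : C} (f : F ⟶ G), nU F ≫ RU.map f = f ≫ nU G)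
  (eV : ∀ F : C, LV.obj F ⟶ F) (nV : ∀ F : C, F ⟶ RV.obj F)
  (hV : ∀ F : C, aV.unit.app F ≫ RV.map (eV F) = nV F)
  (hnV : ∀ {F G : C} (f : F ⟶ G), nV F ≫ RV.map f = f ≫ nV G)
  (rU : RU ⟶ RP) (rV : RV ⟶ RP)
  (w : ∀ G : C, biprod.lift (nU G) (nV G) ≫ biprod.desc (rU.app G) (-(rV.app G)) = 0)
  (hS : ∀ G : C, (ShortComplex.mk _ _ (w G)).ShortExact)

include hU hV hnU hnV w

theorem zero (F : C) : biprod.lift (((conjugateEquiv aU aP).symm rU).app F)
    (-(((conjugateEquiv aV aP).symm rV).app F)) ≫ biprod.desc (eU F) (eV F) = 0 := by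
  rw [biprod.lift_desc, Preadditive.neg_comp, ← sub_eq_add_neg, sub_eq_zero]
  apply (aP.homEquiv F F).injective
  have h3 := homEquiv_e aU eU nU hU hnU (𝟙 F)
  have h4 := homEquiv_e aV eV nV hV hnV (𝟙 F)
  rw [Category.id_comp, Category.comp_id] at h3 h4
  have h7 := w F
  rw [biprod.lift_desc, Preadditive.comp_neg, ← sub_eq_add_neg, sub_eq_zero] at h7
  rw [homEquiv_lam, homEquiv_lam, h3, h4, h7]

include hS

omit [RP.Additive] in
theorem epi (F : C) : Epi (biprod.desc (eU F) (eV F)) := by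
  refine Preadditive.epi_of_cancel_zero _ fun {G} f hf => ?_
  have h1 : eU F ≫ f = 0 := by
    have := congrArg (fun k => biprod.inl ≫ k) hf
    simpa using this
  have h2 : eV F ≫ f = 0 := by
    have := congrArg (fun k => biprod.inr ≫ k) hf
    simpa using this
  have h3 := homEquiv_e aU eU nU hU hnU f
  have h4 := homEquiv_e aV eV nV hV hnV f
  have := aU.left_adjoint_additive
  have := aV.left_adjoint_additive
  rw [h1, aU.homAddEquiv_zero] at h3
  rw [h2, aV.homAddEquiv_zero] at h4
  have hm := (hS G).mono_f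
  have h5 : f ≫ biprod.lift (nU G) (nV G) = 0 := by
    apply biprod.hom_ext
    · rw [Category.assoc, biprod.lift_fst, zero_comp, h3]
    · rw [Category.assoc, biprod.lift_snd, zero_comp, h4]
  have hm' : Mono (biprod.lift (nU G) (nV G)) := hm
  exact (cancel_mono (biprod.lift (nU G) (nV G))).1 (h5.trans (zero_comp).symm)

/-- The second map is a cokernel. -/
theorem exists_desc (F : C) {G : C} (k : LU.obj F ⊞ LV.obj F ⟶ G)
    (hk : biprod.lift (((conjugateEquiv aU aP).symm rU).app F)
      (-(((conjugateEquiv aV aP).symm rV).app F)) ≫ k = 0) :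
    ∃ f : F ⟶ G, biprod.desc (eU F) (eV F) ≫ f = k := by
  have hk' : ((conjugateEquiv aU aP).symm rU).app F ≫ biprod.inl ≫ k =
      ((conjugateEquiv aV aP).symm rV).app F ≫ biprod.inr ≫ k := by
    rw [biprod.lift_eq, Preadditive.add_comp, Preadditive.neg_comp, Preadditive.neg_comp, ← sub_eq_add_neg,
      sub_eq_zero, Category.assoc, Category.assoc] at hk
    exact hk
  have h1 := congrArg (aP.homEquiv F G) hk'
  rw [homEquiv_lam, homEquiv_lam] at h1
  have hm' : Mono (biprod.lift (nU G) (nV G)) := (hS G).mono_f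
  have h2 : biprod.lift (aU.homEquiv F G (biprod.inl ≫ k)) (aV.homEquiv F G (biprod.inr ≫ k)) ≫
      biprod.desc (rU.app G) (-(rV.app G)) = 0 := by
    rw [biprod.lift_desc, Preadditive.comp_neg, ← sub_eq_add_neg, sub_eq_zero, h1]
  obtain ⟨f, hf⟩ : ∃ f : F ⟶ G, f ≫ biprod.lift (nU G) (nV G) =
      biprod.lift (aU.homEquiv F G (biprod.inl ≫ k)) (aV.homEquiv F G (biprod.inr ≫ k)) :=
    ⟨(hS G).exact.lift _ h2, (hS G).exact.lift_f _ _⟩
  refine ⟨f, biprod.hom_ext' _ _ ?_ ?_⟩
  · rw [biprod.inl_desc_assoc]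
    apply (aU.homEquiv F G).injective
    rw [homEquiv_e aU eU nU hU hnU]
    have := congrArg (fun t => t ≫ biprod.fst) hf
    simpa using this
  · rw [biprod.inr_desc_assoc]
    apply (aV.homEquiv F G).injective
    rw [homEquiv_e aV eV nV hV hnV]
    have := congrArg (fun t => t ≫ biprod.snd) hf
    simpa using this

theorem mono [EnoughInjectives C] (F : C) : Mono (biprod.lift (((conjugateEquiv aU aP).symm rU).app F)
      (-(((conjugateEquiv aV aP).symm rV).app F))) := by
  let I := Injective.under (LP.obj F)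
  let i : LP.obj F ⟶ I := Injective.ι _
  let sp := (hS I).splittingOfInjective
  let c : F ⟶ RU.obj I ⊞ RV.obj I := aP.homEquiv F I i ≫ sp.s
  have hc : c ≫ biprod.desc (rU.app I) (-(rV.app I)) = aP.homEquiv F I i := by
    have := sp.s_g
    change sp.s ≫ biprod.desc (rU.app I) (-(rV.app I)) = 𝟙 _ at this
    rw [Category.assoc, this, Category.comp_id]
  let k : LU.obj F ⊞ LV.obj F ⟶ I :=
    biprod.desc ((aU.homEquiv F I).symm (c ≫ biprod.fst)) ((aV.homEquiv F I).symm (c ≫ biprod.snd))
  have hk : biprod.lift (((conjugateEquiv aU aP).symm rU).app F)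
      (-(((conjugateEquiv aV aP).symm rV).app F)) ≫ k = i := by
    rw [biprod.lift_desc, Preadditive.neg_comp, ← sub_eq_add_neg]
    apply (aP.homEquiv F I).injective
    have := aP.left_adjoint_additive
    have e1 : c ≫ biprod.desc (rU.app I) (-(rV.app I)) =
        (c ≫ biprod.fst) ≫ rU.app I - (c ≫ biprod.snd) ≫ rV.app I := by
      simp only [biprod.desc_eq, Preadditive.comp_sub, Preadditive.comp_neg, ← sub_eq_add_neg,
        Category.assoc]
    rw [aP.homAddEquiv_sub, homEquiv_lam, homEquiv_lam, Equiv.apply_symm_apply, Equiv.apply_symm_apply, ← hc, e1]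
  have : Mono (biprod.lift (((conjugateEquiv aU aP).symm rU).app F)
      (-(((conjugateEquiv aV aP).symm rV).app F)) ≫ k) := by
    rw [hk]
    infer_instance
  exact mono_of_mono _ k

theorem shortExact [EnoughInjectives C] (F : C) :
    (ShortComplex.mk _ _ (zero aU aV aP eU nU hU hnU eV nV hV hnV rU rV w F)).ShortExact := by
  have h1 := mono aU aV aP eU nU hU hnU eV nV hV hnV rU rV w hS F
  have h2 := epi aU aV eU nU hU hnU eV nV hV hnV rU rV w hS F
  refine { exact := ?_ }
  refine ShortComplex.exact_of_g_is_cokernel _ (CokernelCofork.IsColimit.ofπ _ _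
    (fun {G} k hk => (exists_desc aU aV aP eU nU hU hnU eV nV hV hnV rU rV w hS F k hk).choose)
    (fun {G} k hk => (exists_desc aU aV aP eU nU hU hnU eV nV hV hnV rU rV w hS F k hk).choose_spec)
    (fun {G} k hk m hm => ?_))
  rw [← cancel_epi (biprod.desc (eU F) (eV F))]
  exact hm.trans (exists_desc aU aV aP eU nU hU hnU eV nV hV hnV rU rV w hS F k hk).choose_spec.symm

end K646.MVShriek
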