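import Groth.Agent.AlgSp.K644.Chart
import Groth.Agent.AlgSp.K646.EtAcyc

/-!
# Modules cartesian on affine objects have exact Čech complexes for affine coverings
-/

set_option autoImplicit false

universe w v d u

open CategoryTheory CategoryTheory.Limits AlgebraicGeometry Opposite Simplicial

namespace K646.QCech

open Groth.Agent.Etbase.CechCartan Groth.Agent.Etbase.FFExact Groth.Agent.CohtopB.CechCrit
  K644.Site K644.Psh K646.EtAcyc

section general

variable {D : Type d} [Category.{v} D] {J : GrothendieckTopology D} {T : D ⥤ Scheme.{u}}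
  [PreservesLimitsOfShape WalkingCospan T] {R : Dᵒᵖ ⥤ RingCat.{w}} [Str T R]

variable {V U : D} (f : V ⟶ U) [∀ n : ℕ, HasWidePullback (Arrow.mk f).right
    (fun _ : Fin (n + 1) => (Arrow.mk f).left) fun _ => (Arrow.mk f).hom]

theorem isAffine_nerve (hV : IsAffine (T.obj V)) (hU : IsAffine (T.obj U)) (n : ℕ) :
    IsAffine (T.obj ((Arrow.mk f).cechNerve _⦋n⦌)) := by
  induction n with
  | zero => exact IsAffine.of_isIso (T.mapIso (isoZero f)).hom
  | succ n ih => exact K644.Site.isAffine_of_isPullback (T := T) (isPullback_succ f n) hU hV ih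

/-- The shifted differential. -/
noncomputable def dS (P : Dᵒᵖ ⥤ AddCommGrpCat.{w}) (E : SimplicialObject D) (n : ℕ) :
    P.obj (op (E _⦋n + 1⦌)) →+ P.obj (op (E _⦋n + 2⦌)) :=
  ∑ i : Fin (n + 2), (-1 : ℤ) ^ (i : ℕ) • (P.map (E.δ i.succ).op).hom

theorem dS_apply (P : Dᵒᵖ ⥤ AddCommGrpCat.{w}) (E : SimplicialObject D) (n : ℕ)
    (x : P.obj (op (E _⦋n + 1⦌))) :
    dS P E n x = ∑ i : Fin (n + 2), (-1 : ℤ) ^ (i : ℕ) • P.map (E.δ i.succ).op x := by
  rw [dS, AddMonoidHom.finsetSum_apply]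
  rfl

theorem dC_succ_apply (P : Dᵒᵖ ⥤ AddCommGrpCat.{w}) (E : SimplicialObject D) (n : ℕ)
    (x : P.obj (op (E _⦋n + 1⦌))) :
    dC P E (n + 1) x = P.map (E.δ 0).op x - dS P E n x := by
  rw [dC_apply, dS_apply, Fin.sum_univ_succ, sub_eq_add_neg, ← Finset.sum_neg_distrib]
  simp only [Fin.val_zero, pow_zero, one_smul, Fin.val_succ, pow_succ, mul_neg, mul_one, neg_smul]

theorem dS_comm (P : Dᵒᵖ ⥤ AddCommGrpCat.{w}) (E : SimplicialObject D) (n : ℕ)
    (x : P.obj (op (E _⦋n⦌))) :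
    P.map (E.δ 0).op (dC P E n x) = dS P E n (P.map (E.δ 0).op x) := by
  rw [dC_apply, dS_apply, map_sum]
  refine Finset.sum_congr rfl fun i _ => ?_
  rw [map_zsmul, ← ConcreteCategory.comp_apply, ← ConcreteCategory.comp_apply, ← Functor.map_comp,
    ← Functor.map_comp, ← op_comp, ← op_comp]
  have h := E.δ_comp_δ (Fin.zero_le i)
  rw [h]
  rfl

theorem exact'_of_isQC {P : PresheafOfModules.{w} R} (h : IsQC T P) (hf : AffCov J T f) :
    Exact' P.presheaf (Arrow.mk f).cechNerve := by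
  intro n x hx
  let E := (Arrow.mk f).cechNerve
  have hE : ∀ n, IsAffine (T.obj (E _⦋n⦌)) := isAffine_nerve f hf.src hf.tgt
  let mU : ∀ n, Module Γ(T.obj U, ⊤) (P.presheaf.obj (op (E _⦋n⦌))) := fun n =>
    Module.compHom _ (T.map (bs f n)).appTop.hom
  let mV : ∀ n, Module Γ(T.obj V, ⊤) (P.presheaf.obj (op (E _⦋n⦌))) := fun n =>
    Module.compHom _ (T.map (pr f n 0)).appTop.hom
  have hmU : ∀ n (i : Fin (n + 2)) (a : Γ(T.obj U, ⊤)) (y : P.presheaf.obj (op (E _⦋n⦌))),
      P.presheaf.map (E.δ i).op (a • y) = a • P.presheaf.map (E.δ i).op y := by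
    intro n i a y
    have key : (T.map (E.δ i)).appTop.hom ((T.map (bs f n)).appTop.hom a) =
        (T.map (bs f (n + 1))).appTop.hom a := by
      rw [← δ_bs f n i, Functor.map_comp, Scheme.Hom.comp_appTop]
      rfl
    refine (map_smul' P (E.δ i) ((T.map (bs f n)).appTop.hom a) y).trans ?_
    exact congrArg (fun r : Γ(T.obj (E _⦋n + 1⦌), ⊤) => r • P.presheaf.map (E.δ i).op y) key
  have hmV : ∀ n (i : Fin (n + 1)) (a : Γ(T.obj V, ⊤)) (y : P.presheaf.obj (op (E _⦋n⦌))),
      P.presheaf.map (E.δ i.succ).op (a • y) = a • P.presheaf.map (E.δ i.succ).op y := by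
    intro n i a y
    have key : (T.map (E.δ i.succ)).appTop.hom ((T.map (pr f n 0)).appTop.hom a) =
        (T.map (pr f (n + 1) 0)).appTop.hom a := by
      have h1 : pr f (n + 1) 0 = E.δ i.succ ≫ pr f n 0 := by
        rw [δ_pr, Fin.succ_succAbove_zero]
      rw [h1, Functor.map_comp, Scheme.Hom.comp_appTop]
      rfl
    refine (map_smul' P (E.δ i.succ) ((T.map (pr f n 0)).appTop.hom a) y).trans ?_
    exact congrArg (fun r : Γ(T.obj (E _⦋n + 1⦌), ⊤) => r • P.presheaf.map (E.δ i.succ).op y) key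
  let d : P.presheaf.obj (op (E _⦋n⦌)) →ₗ[Γ(T.obj U, ⊤)] P.presheaf.obj (op (E _⦋n + 1⦌)) :=
    { toFun := dC P.presheaf E n
      map_add' := map_add _
      map_smul' := fun a y => by
        rw [dC_apply, dC_apply, RingHom.id_apply, Finset.smul_sum]
        refine Finset.sum_congr rfl fun i _ => ?_
        rw [hmU, smul_comm] }
  let d' : P.presheaf.obj (op (E _⦋n + 1⦌)) →ₗ[Γ(T.obj V, ⊤)] P.presheaf.obj (op (E _⦋n + 2⦌)) :=
    { toFun := dS P.presheaf E n
      map_add' := map_add _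
      map_smul' := fun a y => by
        rw [dS_apply, dS_apply, RingHom.id_apply, Finset.smul_sum]
        refine Finset.sum_congr rfl fun i _ => ?_
        rw [hmV, smul_comm] }
  refine IsBC.exact (T.map f).appTop.hom hf.ff d d' (P.presheaf.map (E.δ 0).op).hom
      (P.presheaf.map (E.δ 0).op).hom
      (IsBC.of_isPullback (isPullback_succ f n) hf.tgt hf.src (hE n) (fun _ _ => rfl) (fun _ _ => rfl) _
        (h (E.δ 0) (hE _) (hE _)))
      (IsBC.of_isPullback (isPullback_succ f (n + 1)) hf.tgt hf.src (hE _) (fun _ _ => rfl) (fun _ _ => rfl) _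
        (h (E.δ 0) (hE _) (hE _))) (fun y => dS_comm P.presheaf E n y) x ⟨x, ?_⟩
  rw [dC_succ_apply, sub_eq_zero] at hx
  exact hx.symm

end general

section et

variable {S : Scheme.{u}} {X : AlgSp.Sp S}

theorem affCov {V U : AlgSp.EtOver X} {f : V ⟶ U} (hf : K646.EtAcyc.AffCov X f) :
    K644.Site.AffCov (AlgSp.etTop X) (AlgSp.EtOver.toScheme X) f where
  src := hf.1
  tgt := hf.2.1
  flat := by
    have : Etale (K646.EtSite.mor f) := inferInstance
    exact inferInstanceAs (Flat (K646.EtSite.mor f))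
  surj := ⟨hf.2.2⟩
  mem := K646.EtSite.generateSingleton_mem f hf.2.2

/-- Quasi-coherent modules are Čech acyclic for affine coverings. -/
theorem cechAcyc (M : AlgSp.ModEt X) [M.IsQuasicoherent] :
    CechAcyc (K646.EtAcyc.AffCov X) M.val.presheaf := fun _ _ f hf =>
  exact'_of_isQC f (K644.Chart.isQC M) (affCov hf)

end et

end K646.QCech
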