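import Groth.Agent.PerfA.PostHom
import Mathlib.Algebra.Homology.DerivedCategory.SingleTriangle
import Mathlib.CategoryTheory.Functor.OfSequence
import Mathlib.CategoryTheory.Limits.FullSubcategory

/-!
# Derived limits of towers of objects of an abelian category

* `isIso_single_pi` : if `Hom(S_m G, S_0 M_i) = 0` for `m > 0` and `G` in a detecting class then
  `S_0 (∏ M_i) ⟶ ∏ S_0 M_i` is an isomorphism.
* `ses` : `0 ⟶ lim M ⟶ ∏ M ⟶ ∏ M ⟶ 0`.
* `rlim_single` : the resulting triangle.
-/

set_option autoImplicit false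

universe w v u

open CategoryTheory Category Limits Pretriangulated Triangulated DerivedCategory Opposite

namespace K646.RlimAbs

open Groth.Agent.PerfA.PostAbs Groth.Agent.PerfA.PostTower

variable {C : Type u} [Category.{v} C] [Abelian C] [HasDerivedCategory.{w} C]

section prod

variable {ι : Type*} (M : ι → C) [HasProduct M] [HasProduct fun i => (singleFunctor C 0).obj (M i)]

/-- The canonical comparison map. -/
noncomputable abbrev kap : (singleFunctor C 0).obj (∏ᶜ M) ⟶ ∏ᶜ fun i => (singleFunctor C 0).obj (M i) :=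
  Pi.lift fun i => (singleFunctor C 0).map (Pi.π M i)

theorem isIso_single_pi {P : ObjectProperty C} (hP : Detects P)
    (hv : ∀ G, P G → ∀ (m : ℤ), 0 < m → ∀ (i : ι)
      (φ : (singleFunctor C m).obj G ⟶ (singleFunctor C 0).obj (M i)), φ = 0) :
    IsIso (kap M) := by
  let K : DerivedCategory C := ∏ᶜ fun i => (singleFunctor C 0).obj (M i)
  have hGE : K.IsGE 0 := by
    rw [isGE_iff]
    intro i hi
    obtain ⟨Z, ζ, hζ⟩ := exists_single_epi K i
    have h0 : ζ = 0 := by
      apply Pi.hom_ext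
      intro j
      rw [zero_comp]
      exact TStructure.t.zero _ i 0 (by lia)
    rw [h0, Functor.map_zero] at hζ
    exact @IsZero.of_epi_zero _ _ _ _ _ hζ
  have hLE : K.IsLE 0 := by
    rw [isLE_iff]
    intro m hm
    by_contra hcon
    have hnm : ¬ Mono ((homologyFunctor C m).map (0 : K ⟶ K)) := by
      intro hmono
      apply hcon
      have h1 : (homologyFunctor C m).map (0 : K ⟶ K) = 0 := Functor.map_zero _ _ _
      rw [h1] at hmono
      exact @IsZero.of_mono_zero _ _ _ _ _ hmono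
    obtain ⟨G, hG, φ, hφ, -⟩ := exists_single_of_not_mono hP (0 : K ⟶ K) m hnm
    apply hφ
    have h0 : φ = 0 := by
      apply Pi.hom_ext
      intro j
      rw [zero_comp]
      exact hv G hG m hm j _
    rw [h0, Functor.map_zero]
  obtain ⟨Y, ⟨e⟩⟩ := exists_iso_singleFunctor_obj_of_isGE_of_isLE K 0
  choose p hp using fun i => (singleFunctor C 0).map_surjective
    (e.inv ≫ Pi.π (fun i => (singleFunctor C 0).obj (M i)) i)
  -- `Y` is a product
  let u : ∏ᶜ M ⟶ Y := (singleFunctor C 0).preimage (kap M ≫ e.hom)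
  let v : Y ⟶ ∏ᶜ M := Pi.lift p
  have hu : (singleFunctor C 0).map u = kap M ≫ e.hom := (singleFunctor C 0).map_preimage _
  have hv' : (singleFunctor C 0).map v ≫ kap M = e.inv := by
    apply Pi.hom_ext
    intro i
    rw [assoc, Pi.lift_π, ← Functor.map_comp, Pi.lift_π, hp]
  have h1 : v ≫ u = 𝟙 Y := by
    apply (singleFunctor C 0).map_injective
    rw [Functor.map_comp, hu, ← assoc, hv', e.inv_hom_id, CategoryTheory.Functor.map_id]
  have h2 : u ≫ v = 𝟙 (∏ᶜ M) := by
    apply Pi.hom_ext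
    intro i
    apply (singleFunctor C 0).map_injective
    rw [assoc, Pi.lift_π, Functor.map_comp, hu, hp, assoc, e.hom_inv_id_assoc, Pi.lift_π, id_comp]
  refine ⟨⟨e.hom ≫ (singleFunctor C 0).map v, ?_, ?_⟩⟩
  · rw [← assoc, ← hu, ← Functor.map_comp, h2, CategoryTheory.Functor.map_id]
  · rw [assoc, hv', e.hom_inv_id]

end prod

section ses

variable (M : ℕ → C) (t : ∀ n, M (n + 1) ⟶ M n) [HasProduct M] [HasLimit (Functor.ofOpSequence t)]

/-- The projections of the limit. -/
noncomputable def lπ (n : ℕ) : limit (Functor.ofOpSequence t) ⟶ M n := limit.π (Functor.ofOpSequence t) (op n)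

omit [HasDerivedCategory.{w} C] [HasProduct M] [Abelian C] in
theorem lπ_succ (n : ℕ) : lπ M t (n + 1) ≫ t n = lπ M t n := by
  have h := limit.w (Functor.ofOpSequence t) (homOfLE (Nat.le_add_right n 1)).op
  rw [Functor.ofOpSequence_map_homOfLE_succ] at h
  exact h

/-- The map from the limit to the product. -/
noncomputable abbrev toPi : limit (Functor.ofOpSequence t) ⟶ ∏ᶜ M :=
  Pi.lift fun n => lπ M t n

/-- Identity minus transition. -/
noncomputable abbrev oneSub' : ∏ᶜ M ⟶ ∏ᶜ M :=
  Pi.lift fun n : ℕ => Pi.π M n - Pi.π M (n + 1) ≫ t n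

omit [HasDerivedCategory.{w} C] in
theorem toPi_oneSub : toPi M t ≫ oneSub' M t = 0 := by
  apply Pi.hom_ext
  intro n
  rw [assoc, Pi.lift_π, Preadditive.comp_sub, Pi.lift_π, Pi.lift_π_assoc, lπ_succ, sub_self, zero_comp]

omit [HasDerivedCategory.{w} C] in
theorem exists_lift {T : C} (k : T ⟶ ∏ᶜ M) (hk : k ≫ oneSub' M t = 0) : ∃ l, l ≫ toPi M t = k := by
  have h : ∀ n, k ≫ Pi.π M (n + 1) ≫ t n = k ≫ Pi.π M n := by
    intro n
    have := congrArg (fun z => z ≫ Pi.π M n) hk
    simp only [assoc, Pi.lift_π, Preadditive.comp_sub, zero_comp] at this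
    exact (sub_eq_zero.1 this).symm
  let c : Cone (Functor.ofOpSequence t) :=
    { pt := T
      π := NatTrans.ofOpSequence (fun n => k ≫ Pi.π M n) (fun n => by
        rw [Functor.ofOpSequence_map_homOfLE_succ]
        change 𝟙 _ ≫ _ = _
        rw [id_comp]
        exact (h n).symm.trans (assoc _ _ _).symm) }
  refine ⟨limit.lift _ c, ?_⟩
  apply Pi.hom_ext
  intro n
  rw [assoc, Pi.lift_π]
  exact limit.lift_π c (op n)

omit [HasDerivedCategory.{w} C] [Abelian C] in
theorem mono_toPi : Mono (toPi M t) := by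
  refine ⟨fun {T} a b hab => limit.hom_ext fun n => ?_⟩
  have := congrArg (fun z => z ≫ Pi.π M n.unop) hab
  simp only [assoc, Pi.lift_π] at this
  exact this

omit [HasDerivedCategory.{w} C] [HasLimit (Functor.ofOpSequence t)] in
theorem surj_oneSub (G : C) (hs : ∀ n (y : G ⟶ M n), ∃ z : G ⟶ M (n + 1), z ≫ t n = y) (x : G ⟶ ∏ᶜ M) :
    ∃ y : G ⟶ ∏ᶜ M, y ≫ oneSub' M t = x := by
  choose s hs using hs
  let z : ∀ n : ℕ, G ⟶ M n := fun n =>
    Nat.rec (motive := fun n => G ⟶ M n) 0 (fun n zn => s n (zn - x ≫ Pi.π M n)) n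
  have hz : ∀ n, z n - z (n + 1) ≫ t n = x ≫ Pi.π M n := by
    intro n
    have : z (n + 1) ≫ t n = z n - x ≫ Pi.π M n := hs n (z n - x ≫ Pi.π M n)
    rw [this]
    abel
  refine ⟨Pi.lift z, ?_⟩
  apply Pi.hom_ext
  intro n
  simp only [assoc, Pi.lift_π, Preadditive.comp_sub, Pi.lift_π_assoc]
  exact hz n

variable {P : ObjectProperty C} (hP : Detects P)
  (hs : ∀ G, P G → ∀ n (y : G ⟶ M n), ∃ z : G ⟶ M (n + 1), z ≫ t n = y)

include hP hs

omit [HasDerivedCategory.{w} C] [HasLimit (Functor.ofOpSequence t)] in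
theorem epi_oneSub : Epi (oneSub' M t) := by
  refine Preadditive.epi_of_cancel_zero _ fun {Z} g hg => ?_
  by_contra hcon
  obtain ⟨G, hG, p, hp⟩ := hP g hcon
  obtain ⟨y, rfl⟩ := surj_oneSub M t G (hs G hG) p
  apply hp
  rw [assoc, hg, comp_zero]

omit [HasDerivedCategory.{w} C] in
/-- `0 ⟶ lim M ⟶ ∏ M ⟶ ∏ M ⟶ 0`. -/
theorem ses : (ShortComplex.mk _ _ (toPi_oneSub M t)).ShortExact := by
  have h1 := mono_toPi M t
  have h2 := epi_oneSub M t hP hs
  refine { exact := ?_ }
  exact ShortComplex.exact_of_f_is_kernel _ (KernelFork.IsLimit.ofι _ _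
    (fun {T} k hk => (exists_lift M t k hk).choose)
    (fun {T} k hk => (exists_lift M t k hk).choose_spec)
    (fun {T} k hk m hm => by
      rw [← cancel_mono (toPi M t)]
      exact hm.trans (exists_lift M t k hk).choose_spec.symm))

theorem rlim_single [HasProduct fun n => (singleFunctor C 0).obj (M n)]
    (hv : ∀ G, P G → ∀ (m : ℤ), 0 < m → ∀ (i : ℕ)
      (φ : (singleFunctor C m).obj G ⟶ (singleFunctor C 0).obj (M i)), φ = 0) :
    ∃ c : (∏ᶜ fun n => (singleFunctor C 0).obj (M n)) ⟶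
        ((singleFunctor C 0).obj (limit (Functor.ofOpSequence t)))⟦(1 : ℤ)⟧,
      Triangle.mk (Pi.lift (f := fun n => (singleFunctor C 0).obj (M n))
          fun n => (singleFunctor C 0).map (lπ M t n))
        (oneSub (fun n => (singleFunctor C 0).map (t n))) c ∈ distTriang (DerivedCategory C) := by
  have hk := isIso_single_pi M hP hv
  let S := ShortComplex.mk _ _ (toPi_oneSub M t)
  have hS : S.ShortExact := ses M t hP hs
  let e : (singleFunctor C 0).obj (∏ᶜ M) ≅ ∏ᶜ fun n => (singleFunctor C 0).obj (M n) :=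
    @asIso _ _ _ _ (kap M) hk
  let T : Triangle (DerivedCategory C) := Triangle.mk (Pi.lift (f := fun n => (singleFunctor C 0).obj (M n))
          fun n => (singleFunctor C 0).map (lπ M t n))
        (oneSub (fun n => (singleFunctor C 0).map (t n))) (e.inv ≫ hS.singleδ)
  refine ⟨e.inv ≫ hS.singleδ, ?_⟩
  have he : hS.singleTriangle ≅ T := by
    refine Triangle.isoMk _ _ (Iso.refl _) e e ?_ ?_ ?_
    · change (singleFunctor C 0).map (toPi M t) ≫ kap M = 𝟙 _ ≫
        Pi.lift (f := fun n => (singleFunctor C 0).obj (M n)) fun n => (singleFunctor C 0).map (lπ M t n)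
      rw [id_comp]
      apply Pi.hom_ext
      intro n
      simp only [assoc, Pi.lift_π, ← Functor.map_comp]
    · change (singleFunctor C 0).map (oneSub' M t) ≫ kap M = kap M ≫ oneSub _
      apply Pi.hom_ext
      intro n
      simp only [assoc, Pi.lift_π, ← Functor.map_comp, Preadditive.comp_sub, Pi.lift_π_assoc, Functor.map_sub]
    · change hS.singleδ ≫ (𝟙 _)⟦(1 : ℤ)⟧' = e.hom ≫ e.inv ≫ hS.singleδ
      rw [e.hom_inv_id_assoc, CategoryTheory.Functor.map_id, comp_id]
  exact isomorphic_distinguished _ hS.singleTriangle_distinguished T he.symm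

end ses

end K646.RlimAbs
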