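import Groth.Agent.AlgSp.K646.DSec
import Groth.Agent.AlgSp.K646.DInst
import Groth.Agent.AlgSp.K646.AffSec
import Groth.Agent.AlgSp.K646.ModSec

/-!
# Cohomology sheaves of derived limits of towers with quasi-coherent cohomology and epimorphic transitions
-/

set_option autoImplicit false

universe u

open CategoryTheory CategoryTheory.Limits AlgebraicGeometry Opposite Pretriangulated

set_option backward.isDefEq.respectTransparency false

namespace K646.RlimH

open K646.EtSite K646.EtAcyc K646.AcycX K646.DSec K646.ModSec Groth.Agent.PerfA.PostTower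
  Groth.Agent.PerfA.PostHom

attribute [local instance] HasDerivedCategory.standard

variable {S : Scheme.{u}} {X : AlgSp.Sp S}

section sheaf

/-- Morphisms from `j_! O_U` as sections. -/
noncomputable def oe {U : AlgSp.EtOver X} {M : AlgSp.ModEt X} : (K646.Inst.OU U ⟶ M) ≃+ sec M U :=
  K646.Free.OUaddEquiv.{u + 1}

theorem oe_comp {U : AlgSp.EtOver X} {M N : AlgSp.ModEt X} (m : K646.Inst.OU U ⟶ M) (φ : M ⟶ N) :
    oe (m ≫ φ) = app φ U (oe m) := K646.Free.OUequiv_comp.{u + 1} m φ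

theorem oe_symm_comp {U : AlgSp.EtOver X} {M N : AlgSp.ModEt X} (s : sec M U) (φ : M ⟶ N) :
    oe.symm s ≫ φ = oe.symm (app φ U s) := by
  apply oe.injective
  rw [oe_comp, AddEquiv.apply_symm_apply, AddEquiv.apply_symm_apply]

/-- The underlying sheaf of abelian groups. -/
noncomputable abbrev ab (F : AlgSp.ModEt X) : AlgSp.AbEt X := (SheafOfModules.toSheaf _).obj F

theorem sec_ext_cover (F : AlgSp.ModEt X) {W : AlgSp.EtOver X} {ι : Type*} {V : ι → AlgSp.EtOver X}
    (g : ∀ i, V i ⟶ W) (hg : ∀ x : ↥(sch W), ∃ i, x ∈ Set.range (mor (g i))) (s s' : sec F W)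
    (h : ∀ i, res F (g i) s = res F (g i) s') : s = s' :=
  ext_of_cover (ab F) g hg h

/-- Compatible systems of sections glue. -/
theorem glue_sec (F : AlgSp.ModEt X) (G : ℕ → AlgSp.ModEt X) (ψ : ∀ n, F ⟶ G n) (τ : ∀ n, G (n + 1) ⟶ G n)
    (hinj : ∀ (W : AlgSp.EtOver X) (s : sec F W), (∀ n, app (ψ n) W s = 0) → s = 0)
    (haff : ∀ (V : AlgSp.EtOver X), IsAffine (sch V) → ∀ x : ∀ n, sec (G n) V,
      (∀ n, app (τ n) V (x (n + 1)) = x n) → ∃ s : sec F V, ∀ n, app (ψ n) V s = x n)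
    (W : AlgSp.EtOver X) (x : ∀ n, sec (G n) W) (hx : ∀ n, app (τ n) W (x (n + 1)) = x n) :
    ∃ s : sec F W, ∀ n, app (ψ n) W s = x n := by
  have h1 : ∀ (V : AlgSp.EtOver X) (g : V ⟶ W), IsAffine (sch V) → ∃ s : sec F V,
      ∀ n, app (ψ n) V s = res _ g (x n) := by
    intro V g hV
    refine haff V hV _ (fun n => ?_)
    rw [app_res, hx]
  choose σ hσ using h1
  let ι := {V : Σ V : AlgSp.EtOver X, (V ⟶ W) // IsAffine (sch V.1)}
  have hcov : ∀ y : ↥(sch W), ∃ i : ι, y ∈ Set.range (mor i.1.2) := by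
    intro y
    obtain ⟨V, g, -, hV, hy⟩ := exists_affine W ⊤ ((AlgSp.etTop X).top_mem W) y
    exact ⟨⟨⟨V, g⟩, hV⟩, hy⟩
  obtain ⟨s, hs, -⟩ := existsUnique_glue (ab F)
    (W := W) (ι := ι) (U := fun i => i.1.1) (fun i => i.1.2) hcov (fun i => σ i.1.1 i.1.2 i.2)
    (fun i j Z gi gj hg => by
      change res _ gi _ = res _ gj _
      rw [← sub_eq_zero]
      refine hinj Z _ (fun n => ?_)
      rw [map_sub, app_res, app_res, hσ, hσ, ← res_comp, ← res_comp, hg, sub_self])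
  refine ⟨s, fun n => ?_⟩
  refine sec_ext_cover (G n) (W := W) (ι := ι) (V := fun i => i.1.1) (fun i => i.1.2) hcov _ _ (fun i => ?_)
  have h1 : res F i.1.2 s = σ i.1.1 i.1.2 i.2 := hs i
  rw [← app_res, h1, hσ]

end sheaf

/-- Local lifting of sections of cohomology sheaves. -/
theorem exists_local (K : AlgSp.DModEt X) (q : ℤ) {W : AlgSp.EtOver X}
    (s : sec ((DerivedCategory.homologyFunctor (AlgSp.ModEt X) q).obj K) W) (x : ↥(sch W)) :
    ∃ (V : AlgSp.EtOver X) (g : V ⟶ W) (φ : (DerivedCategory.singleFunctor (AlgSp.ModEt X) q).obj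
      (K646.Inst.OU V) ⟶ K), IsAffine (sch V) ∧ x ∈ Set.range (mor g) ∧ hm φ = oe.symm (res _ g s) := by
  obtain ⟨Z, ζ, hζ⟩ := exists_epi K q
  obtain ⟨T, hT, hT'⟩ := exists_local_of_epi (hm ζ) s
  obtain ⟨V, g, hg, hV, hx⟩ := exists_affine W T hT x
  obtain ⟨t, ht⟩ := hT' g hg
  refine ⟨V, g, (DerivedCategory.singleFunctor (AlgSp.ModEt X) q).map (oe.symm t) ≫ ζ, hV, hx, ?_⟩
  refine (hm_precomp _ _).trans ((oe_symm_comp _ _).trans ?_)
  exact congrArg oe.symm ht

section tower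

variable (K : ℕ → AlgSp.DModEt X) (t : ∀ n, K (n + 1) ⟶ K n)
    (hK : ∀ n, DCoh.IsQCohDMod (AlgSp.OEtRing X) (K n))
    (ht : ∀ (q : ℤ) (n : ℕ), Epi ((DerivedCategory.homologyFunctor (AlgSp.ModEt X) q).map (t n)))
    [HasProduct K] {L : AlgSp.DModEt X} (a : L ⟶ ∏ᶜ K) (c : (∏ᶜ K) ⟶ L⟦(1 : ℤ)⟧)
    (hdist : Triangle.mk a (oneSub t) c ∈ distinguishedTriangles)

include hK ht hdist

theorem single_eq_zero (q : ℤ) (V : AlgSp.EtOver X) (hV : IsAffine (sch V))
    (φ : (DerivedCategory.singleFunctor (AlgSp.ModEt X) q).obj (K646.Inst.OU V) ⟶ L)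
    (h : ∀ n, hm φ ≫ (DerivedCategory.homologyFunctor (AlgSp.ModEt X) q).map (a ≫ Pi.π K n) = 0) : φ = 0 := by
  have := K646.DInst.hasProductsOfShape_nat X
  refine eq_zero (acyc X) K t hK (fun q n G hG y => ?_) a c hdist _ ⟨V, hV, rfl⟩ q φ (fun n => ?_)
  · have := ht q n
    exact K646.AffSec.exists_lift (hK (n + 1) q) (hK n q) _ hG y
  · exact (hm_comp _ _).trans (h n)

theorem sec_eq_zero (q : ℤ) (W : AlgSp.EtOver X)
    (s : sec ((DerivedCategory.homologyFunctor (AlgSp.ModEt X) q).obj L) W)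
    (h : ∀ n, app ((DerivedCategory.homologyFunctor (AlgSp.ModEt X) q).map (a ≫ Pi.π K n)) W s = 0) :
    s = 0 := by
  choose V g φ hV hx hφ using exists_local L q s
  refine sec_ext_cover _ (W := W) g (fun x => ⟨x, hx x⟩) _ _ (fun x => ?_)
  have h1 : φ x = 0 := by
    refine single_eq_zero K t hK ht a c hdist q (V x) (hV x) (φ x) (fun n => ?_)
    rw [hφ x]
    refine (oe_symm_comp _ _).trans ?_
    have h2 := app_res ((DerivedCategory.homologyFunctor (AlgSp.ModEt X) q).map (a ≫ Pi.π K n)) (g x) s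
    rw [h n, map_zero] at h2
    exact (congrArg oe.symm h2).trans (map_zero _)
  have h3 := hφ x
  rw [h1] at h3
  have h4 : oe.symm (res _ (g x) s) = 0 := h3.symm.trans hm_zero
  have h5 : res _ (g x) s = 0 := (AddEquiv.map_eq_zero_iff oe.symm).1 h4
  exact h5.trans (map_zero _).symm

theorem exists_sec (q : ℤ) (W : AlgSp.EtOver X)
    (x : ∀ n, sec ((DerivedCategory.homologyFunctor (AlgSp.ModEt X) q).obj (K n)) W)
    (hx : ∀ n, app ((DerivedCategory.homologyFunctor (AlgSp.ModEt X) q).map (t n)) W (x (n + 1)) = x n) :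
    ∃ s : sec ((DerivedCategory.homologyFunctor (AlgSp.ModEt X) q).obj L) W,
      ∀ n, app ((DerivedCategory.homologyFunctor (AlgSp.ModEt X) q).map (a ≫ Pi.π K n)) W s = x n := by
  have := K646.DInst.hasProductsOfShape_nat X
  refine glue_sec _ (fun n => (DerivedCategory.homologyFunctor (AlgSp.ModEt X) q).obj (K n))
    (fun n => (DerivedCategory.homologyFunctor (AlgSp.ModEt X) q).map (a ≫ Pi.π K n))
    (fun n => (DerivedCategory.homologyFunctor (AlgSp.ModEt X) q).map (t n))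
    (fun W s h => sec_eq_zero K t hK ht a c hdist q W s h) (fun V hV y hy => ?_) W x hx
  obtain ⟨φ, hφ⟩ := exists_of_compat (acyc X) K t hK a c hdist _ ⟨V, hV, rfl⟩ q
      (fun n => oe.symm (y n)) (fun n => (oe_symm_comp _ _).trans (congrArg oe.symm (hy n)))
  refine ⟨oe (hm φ), fun n => ?_⟩
  refine (oe_comp _ _).symm.trans ?_
  have h1 : hm φ ≫ (DerivedCategory.homologyFunctor (AlgSp.ModEt X) q).map (a ≫ Pi.π K n) = oe.symm (y n) :=
    (hm_comp _ _).symm.trans (hφ n)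
  exact (congrArg oe h1).trans (AddEquiv.apply_symm_apply _ _)

end tower

end K646.RlimH
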