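import Groth.Agent.Etbase.FreeSheaf
import Mathlib.CategoryTheory.Sites.Abelian
import Mathlib.Algebra.Category.Grp.Adjunctions

/-!
# Mayer–Vietoris for squares of presheaves of sets

For a square of presheaves of sets which is "elementary distinguished" (`Sq`), the sequence of free abelian sheaves
`0 ⟶ Z[P₁] ⟶ Z[P₂] ⊞ Z[P₃] ⟶ Z[P₄] ⟶ 0` is short exact.
-/

set_option autoImplicit false

universe w v u

open CategoryTheory CategoryTheory.Limits Opposite
open Groth.Agent.Etbase.FreeSheaf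

namespace K646.ZMV

variable {C : Type u} [Category.{v} C] {J : GrothendieckTopology C}

/-- Squares of presheaves of sets giving Mayer–Vietoris sequences. -/
structure Sq (J : GrothendieckTopology C) {P₁ P₂ P₃ P₄ : Cᵒᵖ ⥤ Type w} (p : P₁ ⟶ P₂) (q : P₁ ⟶ P₃) (j : P₂ ⟶ P₄)
    (f : P₃ ⟶ P₄) : Prop where
  w : ∀ (T : Cᵒᵖ) (x : P₁.obj T), j.app T (p.app T x) = f.app T (q.app T x)
  inj : ∀ (T : Cᵒᵖ) (u u' : P₂.obj T), j.app T u = j.app T u' → u = u'
  inj' : ∀ (T : Cᵒᵖ) (x x' : P₁.obj T), q.app T x = q.app T x' → x = x'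
  pb : ∀ (T : Cᵒᵖ) (u : P₂.obj T) (v : P₃.obj T), j.app T u = f.app T v → ∃ x, p.app T x = u ∧ q.app T x = v
  cov : ∀ (T : C) (w : P₄.obj (op T)), ∃ R ∈ J T, ∀ ⦃T' : C⦄ (g : T' ⟶ T), R g →
    (∃ u, j.app _ u = P₄.map g.op w) ∨ (∃ v, f.app _ v = P₄.map g.op w)
  agree : ∀ (T : C) (v v' : P₃.obj (op T)), f.app _ v = f.app _ v' → ∃ R ∈ J T, ∀ ⦃T' : C⦄ (g : T' ⟶ T), R g →
    P₃.map g.op v = P₃.map g.op v' ∨ (∃ u, j.app _ u = f.app _ (P₃.map g.op v))

theorem nat {P Q : Cᵒᵖ ⥤ Type w} (f : P ⟶ Q) {T T' : Cᵒᵖ} (g : T ⟶ T') (x : P.obj T) :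
    f.app T' (P.map g x) = Q.map g (f.app T x) := by
  have := congrArg (fun k => k x) (f.naturality g)
  simpa using this

theorem map_map {P : Cᵒᵖ ⥤ Type w} {T T' T'' : Cᵒᵖ} (g : T ⟶ T') (h : T' ⟶ T'') (x : P.obj T) :
    P.map h (P.map g x) = P.map (g ≫ h) x := by
  rw [P.map_comp]; rfl

section

variable {P₁ P₂ P₃ P₄ : Cᵒᵖ ⥤ Type w} {p : P₁ ⟶ P₂} {q : P₁ ⟶ P₃} {j : P₂ ⟶ P₄} {f : P₃ ⟶ P₄} (h : Sq J p q j f)
  (F : Sheaf J (Type w)) (a : P₂ ⟶ F.obj) (b : P₃ ⟶ F.obj) (hab : p ≫ a = q ≫ b)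

/-- The relation "`y` is the value at `w` of the map glued from `a` and `b`". -/
def Rel (j : P₂ ⟶ P₄) (f : P₃ ⟶ P₄) {F : Sheaf J (Type w)} (a : P₂ ⟶ F.obj) (b : P₃ ⟶ F.obj) {T : Cᵒᵖ} (w : P₄.obj T)
    (y : F.obj.obj T) : Prop :=
  (∃ u, j.app _ u = w ∧ a.app _ u = y) ∨ (∃ v, f.app _ v = w ∧ b.app _ v = y)

variable {F} in
theorem Rel.map {T T' : Cᵒᵖ} (g : T ⟶ T') {w : P₄.obj T} {y : F.obj.obj T} (hr : Rel j f a b w y) :
    Rel j f a b (P₄.map g w) (F.obj.map g y) := by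
  rcases hr with ⟨u, rfl, rfl⟩ | ⟨v, rfl, rfl⟩
  · exact Or.inl ⟨P₂.map g u, nat _ _ _, nat _ _ _⟩
  · exact Or.inr ⟨P₃.map g v, nat _ _ _, nat _ _ _⟩

include h in
variable {F} in
theorem mixed (hab : p ≫ a = q ≫ b) {T : Cᵒᵖ} {u : P₂.obj T} {v : P₃.obj T} (e : j.app _ u = f.app _ v) :
    a.app _ u = b.app _ v := by
  obtain ⟨x, rfl, rfl⟩ := h.pb T u v e
  exact congrArg (fun k => k.app T x) hab

include h in
variable {F} in
theorem Rel.unique (hab : p ≫ a = q ≫ b) {T : Cᵒᵖ} {w : P₄.obj T} {y y' : F.obj.obj T} (hr : Rel j f a b w y)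
    (hr' : Rel j f a b w y') : y = y' := by
  rcases hr with ⟨u, rfl, rfl⟩ | ⟨v, rfl, rfl⟩
  · rcases hr' with ⟨u', e, rfl⟩ | ⟨v, e, rfl⟩
    · rw [h.inj _ _ _ e]
    · exact mixed h a b hab e.symm
  · rcases hr' with ⟨u', e, rfl⟩ | ⟨v', e, rfl⟩
    · exact (mixed h a b hab e).symm
    · obtain ⟨R, hR, hR'⟩ := h.agree T.unop v v' e.symm
      have hsep := ((isSheaf_iff_isSheaf_of_type _ _).1 F.property).isSeparated R hR
      refine hsep.ext (fun T' g hg => ?_)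
      rw [← nat, ← nat]
      rcases hR' g hg with e' | ⟨u, hu⟩
      · rw [e']
      · rw [← mixed h a b hab hu]
        refine mixed h a b hab ?_
        rw [hu, nat, nat, e]

include h in
/-- Maps glue. -/
theorem exists_desc (hab : p ≫ a = q ≫ b) : ∃ c : P₄ ⟶ F.obj, j ≫ c = a ∧ f ≫ c = b := by
  classical
  have key : ∀ (T : C) (w : P₄.obj (op T)), ∃ y : F.obj.obj (op T), ∀ ⦃T' : C⦄ (g : T' ⟶ T) (y' : F.obj.obj (op T')),
      Rel j f a b (P₄.map g.op w) y' → F.obj.map g.op y = y' := by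
    intro T w
    obtain ⟨R, hR, hR'⟩ := h.cov T w
    have hex : ∀ ⦃T' : C⦄ (g : T' ⟶ T), R g → ∃ y', Rel j f a b (P₄.map g.op w) y' := by
      intro T' g hg
      rcases hR' g hg with ⟨u, hu⟩ | ⟨v, hv⟩
      · exact ⟨_, Or.inl ⟨u, hu, rfl⟩⟩
      · exact ⟨_, Or.inr ⟨v, hv, rfl⟩⟩
    choose x hx using hex
    let fam : Presieve.FamilyOfElements F.obj (R : Presieve T) := fun T' g hg => x g hg
    have hc : fam.SieveCompatible := by
      intro T' T'' g k hg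
      refine Rel.unique h a b hab (hx (k ≫ g) (R.downward_closed hg k)) ?_
      have := (hx g hg).map a b k.op
      rw [map_map, ← op_comp] at this
      exact this
    have hs := ((isSheaf_iff_isSheaf_of_type _ _).1 F.property) R hR
    refine ⟨hs.amalgamate fam ((Presieve.compatible_iff_sieveCompatible fam).2 hc), fun T' g y' hy' => ?_⟩
    have hsep := ((isSheaf_iff_isSheaf_of_type _ _).1 F.property).isSeparated (R.pullback g) (J.pullback_stable g hR)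
    refine hsep.ext (fun T'' k hk => ?_)
    rw [map_map, ← op_comp, hs.valid_glue ((Presieve.compatible_iff_sieveCompatible fam).2 hc) _ hk]
    refine Rel.unique h a b hab (hx _ hk) ?_
    have := hy'.map a b k.op
    rw [map_map, ← op_comp] at this
    exact this
  choose c hc using key
  have hrel : ∀ (T : C) (w : P₄.obj (op T)) (y : F.obj.obj (op T)), Rel j f a b w y → c T w = y := by
    intro T w y hr
    have := hc T w (𝟙 T) y (by simpa using hr)
    simpa using this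
  have huniq : ∀ (T : C) (w : P₄.obj (op T)) (y : F.obj.obj (op T)), (∀ ⦃T' : C⦄ (g : T' ⟶ T) (y' : F.obj.obj (op T')),
      Rel j f a b (P₄.map g.op w) y' → F.obj.map g.op y = y') → c T w = y := by
    intro T w y hy
    obtain ⟨R, hR, hR'⟩ := h.cov T w
    have hsep := ((isSheaf_iff_isSheaf_of_type _ _).1 F.property).isSeparated R hR
    refine hsep.ext (fun T' g hg => ?_)
    have hex : ∃ y', Rel j f a b (P₄.map g.op w) y' := by
      rcases hR' g hg with ⟨u, hu⟩ | ⟨v, hv⟩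
      · exact ⟨_, Or.inl ⟨u, hu, rfl⟩⟩
      · exact ⟨_, Or.inr ⟨v, hv, rfl⟩⟩
    obtain ⟨y', hy'⟩ := hex
    rw [hc T w g y' hy', hy g y' hy']
  let cc : P₄ ⟶ F.obj :=
    { app := fun T => ↾(c T.unop)
      naturality := by
        rintro ⟨T⟩ ⟨T'⟩ g
        ext w
        change c T' (P₄.map g w) = F.obj.map g (c T w)
        refine huniq _ _ _ (fun T'' k y' hy' => ?_)
        rw [map_map, show g ≫ k.op = (k ≫ g.unop).op from rfl]
        refine hc T w _ _ ?_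
        rw [map_map] at hy'
        exact hy' }
  refine ⟨cc, ?_, ?_⟩
  · ext T u
    exact hrel _ _ _ (Or.inl ⟨u, rfl, rfl⟩)
  · ext T v
    exact hrel _ _ _ (Or.inr ⟨v, rfl, rfl⟩)

include h in
/-- Maps are determined by their restrictions. -/
theorem hom_ext' {c c' : P₄ ⟶ F.obj} (h1 : j ≫ c = j ≫ c') (h2 : f ≫ c = f ≫ c') : c = c' := by
  ext ⟨T⟩ w
  obtain ⟨R, hR, hR'⟩ := h.cov T w
  have hsep := ((isSheaf_iff_isSheaf_of_type _ _).1 F.property).isSeparated R hR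
  refine hsep.ext (fun T' g hg => ?_)
  change F.obj.map g.op (c.app _ w) = F.obj.map g.op (c'.app _ w)
  rw [← nat, ← nat]
  rcases hR' g hg with ⟨u, hu⟩ | ⟨v, hv⟩
  · rw [← hu]
    exact congrArg (fun k => k.app _ u) h1
  · rw [← hv]
    exact congrArg (fun k => k.app _ v) h2

end

section ab

variable [HasSheafify J AddCommGrpCat.{w}] [J.HasSheafCompose (forget AddCommGrpCat.{w})]

/-- The underlying sheaf of sets. -/
abbrev und (F : Sheaf J AddCommGrpCat.{w}) : Sheaf J (Type w) := (sheafCompose J (forget AddCommGrpCat.{w})).obj F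

/-- Maps out of `Z[P]`. -/
noncomputable def zl {P : Cᵒᵖ ⥤ Type w} {F : Sheaf J AddCommGrpCat.{w}} (c : P ⟶ (und F).obj) : Z J P ⟶ F :=
  lift (fun U x => c.app U x) (fun _ _ g x => (nat c g x).symm)

theorem zl_gen {P : Cᵒᵖ ⥤ Type w} {F : Sheaf J AddCommGrpCat.{w}} (c : P ⟶ (und F).obj) {U : Cᵒᵖ} (x : P.obj U) :
    (zl c).hom.app U (gen x) = c.app U x := lift_gen _ _ x

/-- The map of presheaves attached to a map out of `Z[P]`. -/
noncomputable def zd {P : Cᵒᵖ ⥤ Type w} {F : Sheaf J AddCommGrpCat.{w}} (φ : Z J P ⟶ F) : P ⟶ (und F).obj where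
  app U := ↾(fun x => φ.hom.app U (gen x))
  naturality U V g := by
    ext x
    change φ.hom.app V (gen (P.map g x)) = F.obj.map g (φ.hom.app U (gen x))
    rw [← app_map, map_gen]

theorem zd_app {P : Cᵒᵖ ⥤ Type w} {F : Sheaf J AddCommGrpCat.{w}} (φ : Z J P ⟶ F) {U : Cᵒᵖ} (x : P.obj U) :
    (zd φ).app U x = φ.hom.app U (gen x) := rfl

theorem zd_zl {P : Cᵒᵖ ⥤ Type w} {F : Sheaf J AddCommGrpCat.{w}} (c : P ⟶ (und F).obj) : zd (zl c) = c := by
  ext U x
  exact zl_gen c x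

theorem zl_zd {P : Cᵒᵖ ⥤ Type w} {F : Sheaf J AddCommGrpCat.{w}} (φ : Z J P ⟶ F) : zl (zd φ) = φ :=
  hom_ext (fun _ x => zl_gen _ x)

theorem zd_inj {P : Cᵒᵖ ⥤ Type w} {F : Sheaf J AddCommGrpCat.{w}} {φ ψ : Z J P ⟶ F} (h : zd φ = zd ψ) : φ = ψ := by
  rw [← zl_zd φ, h, zl_zd]

theorem zd_comp {P Q : Cᵒᵖ ⥤ Type w} {F : Sheaf J AddCommGrpCat.{w}} (f : P ⟶ Q) (φ : Z J Q ⟶ F) :
    zd (Zmap f ≫ φ) = f ≫ zd φ := by
  ext U x
  change φ.hom.app U ((Zmap (J := J) f).hom.app U (gen x)) = φ.hom.app U (gen (f.app U x))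
  rw [Zmap_gen]

theorem Zmap_comp {P Q R : Cᵒᵖ ⥤ Type w} (f : P ⟶ Q) (g : Q ⟶ R) :
    Zmap (J := J) f ≫ Zmap g = Zmap (f ≫ g) := by
  refine hom_ext (fun U x => ?_)
  change (Zmap (J := J) g).hom.app U ((Zmap (J := J) f).hom.app U (gen x)) = (Zmap (J := J) (f ≫ g)).hom.app U (gen x)
  rw [Zmap_gen, Zmap_gen, Zmap_gen]
  rfl

instance mono_Zmap {P Q : Cᵒᵖ ⥤ Type w} (f : P ⟶ Q) [Mono f] : Mono (Zmap (J := J) f) := by
  have : Mono (Functor.whiskerRight f AddCommGrpCat.free.{w}) := inferInstance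
  exact (presheafToSheaf J AddCommGrpCat.{w}).map_mono _

variable {P₁ P₂ P₃ P₄ : Cᵒᵖ ⥤ Type w} {p : P₁ ⟶ P₂} {q : P₁ ⟶ P₃} {j : P₂ ⟶ P₄} {f : P₃ ⟶ P₄} (h : Sq J p q j f)

include h

theorem mono_q : Mono q := by
  refine ⟨fun a b hab => ?_⟩
  ext T x
  exact h.inj' T _ _ (congrArg (fun k => k.app T x) hab)

theorem comm : p ≫ j = q ≫ f := by
  ext T x
  exact h.w T x

theorem zero : biprod.lift (Zmap (J := J) p) (-Zmap q) ≫ biprod.desc (Zmap j) (Zmap f) = 0 := by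
  rw [biprod.lift_desc, Preadditive.neg_comp, Zmap_comp, Zmap_comp, comm h, add_neg_cancel]

theorem epi : Epi (biprod.desc (Zmap (J := J) j) (Zmap f)) := by
  rw [Preadditive.epi_iff_cancel_zero]
  intro F c hc
  have h1 : Zmap j ≫ c = 0 := by
    rw [← biprod.inl_desc (Zmap (J := J) j) (Zmap f), Category.assoc, hc, comp_zero]
  have h2 : Zmap f ≫ c = 0 := by
    rw [← biprod.inr_desc (Zmap (J := J) j) (Zmap f), Category.assoc, hc, comp_zero]
  apply zd_inj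
  refine hom_ext' h (und F) ?_ ?_
  · rw [← zd_comp, ← zd_comp, h1, comp_zero]
  · rw [← zd_comp, ← zd_comp, h2, comp_zero]

theorem exists_zdesc {F : Sheaf J AddCommGrpCat.{w}} (k : Z J P₂ ⊞ Z J P₃ ⟶ F)
    (hk : biprod.lift (Zmap (J := J) p) (-Zmap q) ≫ k = 0) :
    ∃ l : Z J P₄ ⟶ F, biprod.desc (Zmap (J := J) j) (Zmap f) ≫ l = k := by
  have h1 : Zmap p ≫ biprod.inl ≫ k = Zmap q ≫ biprod.inr ≫ k := by
    rw [← sub_eq_zero, ← hk, biprod.lift_eq, Preadditive.add_comp, Preadditive.neg_comp, Preadditive.neg_comp,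
      Category.assoc, Category.assoc, sub_eq_add_neg]
  obtain ⟨c, hc1, hc2⟩ := exists_desc h (und F) (zd (biprod.inl ≫ k)) (zd (biprod.inr ≫ k)) (by
    rw [← zd_comp, ← zd_comp, h1])
  refine ⟨zl c, ?_⟩
  apply biprod.hom_ext'
  · rw [biprod.inl_desc_assoc]
    apply zd_inj
    rw [zd_comp, zd_zl, hc1]
  · rw [biprod.inr_desc_assoc]
    apply zd_inj
    rw [zd_comp, zd_zl, hc2]

theorem mono : Mono (biprod.lift (Zmap (J := J) p) (-Zmap q)) := by
  have := mono_q h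
  have h1 : Mono (biprod.lift (Zmap (J := J) p) (-Zmap q) ≫ biprod.snd) := by
    rw [biprod.lift_snd]
    infer_instance
  exact mono_of_mono _ biprod.snd

/-- The Mayer–Vietoris short exact sequence. -/
theorem shortExact : (ShortComplex.mk _ _ (zero (J := J) h)).ShortExact where
  exact := by
    have := epi (J := J) h
    have hcol : IsColimit (CokernelCofork.ofπ (f := biprod.lift (Zmap (J := J) p) (-Zmap q))
        (biprod.desc (Zmap (J := J) j) (Zmap f)) (zero h)) :=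
      CokernelCofork.IsColimit.ofπ _ _ (fun k hk => (exists_zdesc h k hk).choose)
        (fun k hk => (exists_zdesc h k hk).choose_spec)
        (fun k hk m hm => by
          rw [← cancel_epi (biprod.desc (Zmap (J := J) j) (Zmap f)), hm]
          exact (exists_zdesc h k hk).choose_spec.symm)
    exact ShortComplex.exact_of_g_is_cokernel _ hcol
  mono_f := mono h
  epi_g := epi h

end ab

end K646.ZMV
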